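import Cfsg.Agent.Lib.Fus.Co1Centre.Signs
import Cfsg.Agent.Lib.Fus.CharTwo
import Cfsg.Agent.Lib.Grp.Frattini
import Cfsg.Prelude.Def_Transfer
import Cfsg.Prelude.Def_Spor_Conway
import Cfsg.Agent.S0296

/-!
The centraliser of the class of an octad sign change in the quotient of the lattice group by its centre.
-/

set_option autoImplicit false
set_option maxRecDepth 100000

open Matrix Cfsg
open scoped Pointwise commutatorElement

namespace Cfsg.Agent.Fus.Co1Centre

open Cfsg.Agent.Spor Cfsg.Agent.Spor.Leech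
open Cfsg.Agent.Classical.OmegaEightTwo (O0 QQ G0)
open Golay.Census (grp tr4SG)

/-- The sign change on the octad. -/
def eO : Co0 := mono (one_mem M24) om_octad.1

/-- The quotient map. -/
def mk : Co0 →* Spor.Co1 := QuotientGroup.mk' (Subgroup.center Co0)

theorem mk_eq {a b : Co0} : mk a = mk b ↔ a = b ∨ a = negCo * b := by
  rw [mk, QuotientGroup.mk'_apply, QuotientGroup.mk'_apply, eq_comm, QuotientGroup.eq, mem_center_iff]
  have hn : ∀ x : Co0, negCo * x = x * negCo := fun x =>
    (Subgroup.mem_center_iff.1 (mem_center_iff.2 (Or.inr rfl)) x).symm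
  rw [inv_mul_eq_one, inv_mul_eq_iff_eq_mul, hn b, eq_comm]

theorem eO_apply (v : leechLattice) (i : GolayPt) :
    ((eO • v : leechLattice) : Vec) i = if i ∈ Om then -(v : Vec) i else (v : Vec) i := by
  rw [eO, mono_apply, signedPerm]
  rfl

theorem eO_Lm {v : leechLattice} (hv : v ∈ Lm) : eO • v = -v := by
  refine Subtype.ext (funext fun i => ?_)
  rw [eO_apply, AddSubgroup.coe_neg, Pi.neg_apply]
  split_ifs with h
  · rfl
  · rw [hv i h, neg_zero]

theorem dot_axis (u : leechLattice) (j : GolayPt) : dotInt (u : Vec) (axis j : Vec) = (u : Vec) j * 8 := by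
  rw [axis_val, dotInt, Finset.sum_eq_single j (fun b _ hb => by rw [Pi.single_eq_of_ne hb, mul_zero]) (by simp),
    Pi.single_eq_same]

theorem comm_of_mem {g : Co0} (hg : g ∈ Cs) : g * eO = eO * g := by
  refine ext_axis fun i => ?_
  rw [mul_smul, mul_smul]
  by_cases hi : i ∈ Om
  · rw [eO_Lm (axis_mem_iff.2 hi), eO_Lm (smul_mem_Lm hg (axis_mem_iff.2 hi)), co_neg]
  · have e1 : eO • axis i = axis i := by
      refine Subtype.ext (funext fun k => ?_)
      rw [eO_apply]
      split_ifs with h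
      · rw [axis_val, Pi.single_eq_of_ne (fun e : k = i => hi (e ▸ h)), neg_zero]
      · rfl
    rw [e1]
    refine Subtype.ext (funext fun k => ?_)
    rw [eO_apply]
    split_ifs with h
    · have hy : g⁻¹ • axis k ∈ Lm := smul_mem_Lm (inv_mem hg) (axis_mem_iff.2 h)
      have e := co_dot g⁻¹ (g • axis i) (axis k)
      rw [inv_smul_smul, dotInt_comm, dot_axis, dot_axis, hy i hi] at e
      omega
    · rfl

theorem not_anti {g : Co0} (h : g * eO = negCo * (eO * g)) : False := by
  have hoff : ∀ v ∈ Lm, ∀ i ∈ Om, ((g • v : leechLattice) : Vec) i = 0 := by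
    intro v hv i hi
    have e := congrArg (fun x : Co0 => ((x • v : leechLattice) : Vec) i) h
    simp only [mul_smul, eO_Lm hv, co_neg, negCo_apply, AddSubgroup.coe_neg, Pi.neg_apply, eO_apply,
      if_pos hi] at e
    omega
  have hback : ∀ j ∉ Om, g⁻¹ • axis j ∈ Lm := by
    intro j hj
    have e := congrArg (fun x : Co0 => x • g⁻¹ • axis j) h
    have e1 : eO • axis j = axis j := by
      refine Subtype.ext (funext fun k => ?_)
      rw [eO_apply]
      split_ifs with hk
      · rw [axis_val, Pi.single_eq_of_ne (fun e : k = j => hj (e ▸ hk)), neg_zero]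
      · rfl
    simp only [mul_smul, smul_inv_smul, negCo_apply, e1] at e
    have e2 : eO • g⁻¹ • axis j = -(g⁻¹ • axis j) := by
      rw [← co_neg, ← e, inv_smul_smul]
    refine mem_Lm.2 fun i hi => ?_
    have e3 := congrArg (fun v : leechLattice => (v : Vec) i) e2
    simp only [eO_apply, if_neg hi, AddSubgroup.coe_neg, Pi.neg_apply] at e3
    omega
  have hsym : ∀ i j, ((g • axis i : leechLattice) : Vec) j = ((g⁻¹ • axis j : leechLattice) : Vec) i := by
    intro i j
    have e := co_dot g⁻¹ (g • axis i) (axis j)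
    rw [inv_smul_smul, dotInt_comm, dot_axis, dot_axis] at e
    omega
  have h1 : ∑ i ∈ Om, ∑ j ∈ Omᶜ, ((g • axis i : leechLattice) : Vec) j ^ 2 = 512 := by
    rw [Finset.sum_congr rfl fun i hi => show (∑ j ∈ Omᶜ, ((g • axis i : leechLattice) : Vec) j ^ 2) = 64 from ?_]
    · rw [Finset.sum_const, card_om]; norm_num
    · rw [← axis_norm i, ← co_norm g, sqNorm]
      exact Finset.sum_subset (Finset.subset_univ _) fun j _ hj => by
        rw [hoff _ (axis_mem_iff.2 hi) j (by simpa using hj)]; rfl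
  rw [Finset.sum_comm, Finset.sum_congr rfl fun j hj =>
    show (∑ i ∈ Om, ((g • axis i : leechLattice) : Vec) j ^ 2) = 64 from ?_] at h1
  · rw [Finset.sum_const, Finset.card_compl, card_om, Golay.card_golayPt] at h1
    norm_num at h1
  · rw [← axis_norm j, ← co_norm g⁻¹, sqNorm]
    simp only [hsym]
    exact Finset.sum_subset (Finset.subset_univ _) fun i _ hi => by
      rw [hback j (Finset.mem_compl.1 hj) i hi]; rfl

/-- The centraliser. -/
abbrev C : Subgroup Spor.Co1 := Subgroup.centralizer ({mk eO} : Set Spor.Co1)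

theorem mk_mem (g : Cs) : mk g ∈ C := by
  rw [Subgroup.mem_centralizer_singleton_iff, ← map_mul, ← map_mul, comm_of_mem g.2]

/-- The covering map. -/
def psi : Cs →* C := (mk.comp Cs.subtype).codRestrict C mk_mem

theorem psi_val (g : Cs) : ((psi g : C) : Spor.Co1) = mk g := rfl

theorem psi_surjective : Function.Surjective psi := by
  rintro ⟨c, hc⟩
  obtain ⟨g, rfl⟩ := QuotientGroup.mk'_surjective _ c
  rw [Subgroup.mem_centralizer_singleton_iff] at hc
  change mk g * mk eO = mk eO * mk g at hc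
  rw [← map_mul, ← map_mul, mk_eq] at hc
  rcases hc with h | h
  · refine ⟨⟨g, mem_Cs fun v hv => mem_Lm.2 fun i hi => ?_⟩, rfl⟩
    have e := congrArg (fun x : Co0 => ((x • v : leechLattice) : Vec) i) h
    simp only [mul_smul, eO_Lm hv, co_neg, AddSubgroup.coe_neg, Pi.neg_apply, eO_apply, if_neg hi] at e
    omega
  · exact (not_anti h).elim

theorem negCo_mem : negCo ∈ Cs := (mono_mem_Cs (one_mem M24) univ_code).2 (one_smul _ _)

theorem psi_eq {a b : Cs} : psi a = psi b ↔ a = b ∨ a = ⟨negCo, negCo_mem⟩ * b := by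
  rw [Subtype.ext_iff, psi_val, psi_val, mk_eq]
  simp only [Subtype.ext_iff, Subgroup.coe_mul]

theorem card_ker_psi : Nat.card psi.ker = 2 := by
  rw [← SetLike.coe_sort_coe, Nat.card_coe_set_eq, show (psi.ker : Set Cs) = {1, ⟨negCo, negCo_mem⟩} from
    Set.ext fun g => by
      rw [SetLike.mem_coe, MonoidHom.mem_ker, ← map_one psi, psi_eq, mul_one]
      simp]
  exact Set.ncard_pair fun h => negCo_ne_one (congrArg Subtype.val h).symm

/-- The map to the orthogonal commutator subgroup. -/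
noncomputable def Phi' : Cs →* G0 := Phi.codRestrict _ fun g => range_eq ▸ ⟨g, rfl⟩

theorem Phi'_surjective : Function.Surjective Phi' := by
  rintro ⟨y, hy⟩
  rw [← range_eq] at hy
  obtain ⟨g, rfl⟩ := hy
  exact ⟨g, rfl⟩

theorem ker_Phi' : Phi'.ker = Phi.ker := MonoidHom.ker_codRestrict _ _ _

theorem ker_psi_le : psi.ker ≤ Phi'.ker := by
  intro g hg
  rw [MonoidHom.mem_ker, ← map_one psi, psi_eq, mul_one] at hg
  rw [ker_Phi']
  rcases hg with rfl | rfl
  · exact one_mem _
  · refine mem_ker.2 fun v hv => ?_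
    show red ((negCo • v : leechLattice) : Vec) = _
    rw [negCo_apply, red_neg hv]

/-- The map of the centraliser. -/
noncomputable def theta : C →* G0 := psi.liftOfSurjective psi_surjective ⟨Phi', ker_psi_le⟩

theorem theta_psi (g : Cs) : theta (psi g) = Phi' g :=
  MonoidHom.liftOfRightInverse_comp_apply psi _ (Function.rightInverse_surjInv psi_surjective) ⟨Phi', ker_psi_le⟩ g

theorem theta_surjective : Function.Surjective theta := fun y => by
  obtain ⟨g, rfl⟩ := Phi'_surjective y
  exact ⟨psi g, theta_psi g⟩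

theorem card_Q : Nat.card theta.ker = 2 ^ 9 := by
  have h1 := psi.ker.card_mul_index
  have h2 := Phi'.ker.card_mul_index
  have h3 := theta.ker.card_mul_index
  rw [Subgroup.index_ker, MonoidHom.range_eq_top.2 psi_surjective, Subgroup.card_top, card_ker_psi] at h1
  rw [Subgroup.index_ker, MonoidHom.range_eq_top.2 Phi'_surjective, Subgroup.card_top, ker_Phi', card_ker,
    Classical.OmegaEightTwo.card_G0] at h2
  rw [Subgroup.index_ker, MonoidHom.range_eq_top.2 theta_surjective, Subgroup.card_top,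
    Classical.OmegaEightTwo.card_G0] at h3
  revert h1 h2 h3
  generalize Nat.card theta.ker = a
  generalize Nat.card C = b
  generalize Nat.card Cs = c
  intro h1 h2 h3
  omega

theorem exists_Q {x : C} (hx : x ∈ theta.ker) : ∃ q, psi (kap q) = x := by
  obtain ⟨g, rfl⟩ := psi_surjective x
  rw [MonoidHom.mem_ker, theta_psi, ← MonoidHom.mem_ker, ker_Phi'] at hx
  obtain ⟨q, rfl⟩ := exists_kap hx
  exact ⟨q, rfl⟩

theorem psi_kap_mem (q : ↥(grp tr4SG) × SO) : psi (kap q) ∈ theta.ker := by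
  rw [MonoidHom.mem_ker, theta_psi, ← MonoidHom.mem_ker, ker_Phi']
  exact kap_mem q

theorem empty_SO : (∅ : Finset GolayPt) ∈ SO := ⟨empty_code, Or.inl (Finset.disjoint_empty_left _)⟩

theorem psi_four {g : Cs} {c : Finset GolayPt} (hc : c ∈ supports (golayCode : Set (GolayPt → ZMod 2)))
    (hg : (g : Co0) = mono (one_mem M24) hc) (h : Four c) :
    psi g = 1 ∨ (psi g : Spor.Co1) = mk eO := by
  obtain ⟨m, hm, rfl⟩ := h
  simp only [four, List.mem_cons, List.not_mem_nil, or_false] at hm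
  have hempty : Golay.pts 0 = ∅ := by ext p; simp [Golay.mem_pts]
  have hone : mono (one_mem M24) empty_code = 1 := ext_axis fun i => by rw [mono_axis]; simp
  have huniv : Golay.pts 16777215 = Finset.univ := by decide +kernel
  rcases hm with rfl | rfl | rfl | rfl
  · refine Or.inl (Subtype.ext ?_)
    rw [psi_val, hg, mono_congr (one_mem M24) (one_mem M24) hc empty_code rfl hempty, hone, map_one]
    rfl
  · exact Or.inr (by rw [psi_val, hg]; rfl)
  · refine Or.inl (Subtype.ext ?_)
    rw [psi_val, hg, mono_congr (one_mem M24) (one_mem M24) hc univ_code rfl huniv]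
    show mk negCo = 1
    rw [← map_one mk, mk_eq, mul_one]
    exact Or.inr rfl
  · refine Or.inr ?_
    rw [psi_val, hg, mk_eq, negCo, eO, mono_mul]
    refine Or.inr (mono_congr _ _ _ _ (one_mul 1).symm ?_)
    rw [one_smul, ← huniv, Golay.pts_symmDiff]

theorem eO_comm_C (x : C) : (x : Spor.Co1) * mk eO = mk eO * x :=
  Subgroup.mem_centralizer_singleton_iff.1 x.2

theorem Cs_eO : eO ∈ Cs := (mono_mem_Cs _ _).2 (one_smul _ _)

/-- The involution in the centraliser. -/
def zC : C := psi ⟨eO, Cs_eO⟩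

theorem zC_val : (zC : Spor.Co1) = mk eO := rfl

theorem zC_ne : zC ≠ 1 := by
  intro h
  have h1 : mk eO = mk 1 := by rw [map_one]; exact congrArg Subtype.val h
  rw [mk_eq, mul_one] at h1
  rcases h1 with h1 | h1
  · have h2 := congrArg (fun g : Co0 => g • axis i0) h1
    simp only [eO_Lm (axis_mem_iff.2 i0_mem), one_smul] at h2
    exact axis_ne_neg i0 i0 h2.symm
  · obtain ⟨-, h2⟩ := mono_inj (one_mem M24) (one_mem M24) om_octad.1 univ_code h1
    have h3 := congrArg Finset.card h2
    rw [card_om, Finset.card_univ, Golay.card_golayPt] at h3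
    omega

theorem orderOf_eO : orderOf (mk eO) = 2 := by
  haveI : Fact (Nat.Prime 2) := ⟨Nat.prime_two⟩
  refine orderOf_eq_prime ?_ fun h => zC_ne (Subtype.ext h)
  have hone : eO * eO = 1 := ext_axis fun i => Subtype.ext (funext fun k => by
    rw [mul_smul, one_smul, eO_apply, eO_apply]; split_ifs <;> simp)
  rw [pow_two, ← map_mul, hone, map_one]

theorem zC_mem : zC ∈ theta.ker := by
  have e : (⟨eO, Cs_eO⟩ : Cs) = kap (1, ⟨Om, om_octad.1, Or.inr (Finset.Subset.refl _)⟩) :=
    Subtype.ext rfl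
  rw [zC, e]
  exact psi_kap_mem _

theorem square_Q {x : C} (hx : x ∈ theta.ker) : x ^ 2 = 1 ∨ x ^ 2 = zC := by
  obtain ⟨⟨⟨σ, hσ⟩, c, hc⟩, rfl⟩ := exists_Q hx
  have h2 : σ * σ = 1 := by rw [← pow_two]; exact Affine.Oct.grp_tr4_elem.2 σ hσ
  rw [← map_pow]
  refine (psi_four (Golay.symmDiff_mem_supports hc.1 (smul_supports (ker_perm_mem hσ) hc.1)) ?_
    (grp_four hσ c hc)).imp id fun h => Subtype.ext h
  rw [SubgroupClass.coe_pow, pow_two]
  simp only [kap, mono_mul]
  exact mono_congr _ _ _ _ h2 rfl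

theorem center_Q {x : C} (hx : x ∈ theta.ker) (hc : ∀ y ∈ theta.ker, x * y = y * x) : x = 1 ∨ x = zC := by
  obtain ⟨⟨⟨σ, hσ⟩, c, hcS⟩, rfl⟩ := exists_Q hx
  have hd : ∀ d ∈ SO, Disjoint d Om → σ • d = d := by
    intro d hd hdis
    have h := hc _ (psi_kap_mem (1, ⟨d, hd⟩))
    rw [← map_mul, ← map_mul, psi_eq] at h
    have hneg : ∀ q r : Cs, q = ⟨negCo, negCo_mem⟩ * r ↔ (q : Co0) = negCo * (r : Co0) := fun q r => Subtype.ext_iff
    rw [Subtype.ext_iff, hneg] at h
    simp only [Subgroup.coe_mul, kap, negCo, mono_mul, OneMemClass.coe_one, one_smul] at h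
    rcases h with h | h
    · obtain ⟨-, h⟩ := mono_inj _ _ _ _ h
      rw [symmDiff_comm d c] at h
      exact symmDiff_right_injective c h
    · obtain ⟨-, h⟩ := mono_inj _ _ _ _ h
      rw [symmDiff_comm d c, ← symmDiff_assoc, symmDiff_comm Finset.univ c,
        symmDiff_assoc] at h
      have h2 := congrArg (fun s => i0 ∈ s) (symmDiff_right_injective c h)
      have h3 : i0 ∉ d := Finset.disjoint_right.1 hdis i0_mem
      have h4 : i0 ∉ σ • d := by
        rw [symm_mem_smul]
        refine Finset.disjoint_right.1 hdis ?_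
        rw [← symm_mem_smul, ker_perm_Om hσ]; exact i0_mem
      simp [Finset.mem_symmDiff, h3, h4] at h2
  have hσ1 : σ = 1 := by
    refine Equiv.ext fun i => ?_
    rw [Equiv.Perm.one_apply]
    rcases separate i with hi | hi
    · exact (Golay.Census.mem_ker_oct.1 hσ).2 i hi
    rcases hi (σ i) with hj | hj | hj
    · have := (Golay.Census.mem_ker_oct.1 hσ).2 _ hj
      exact σ.injective this
    · exact hj.symm
    · obtain ⟨m, hm, hh⟩ := List.any_eq_true.1 hj
      simp only [Bool.and_eq_true, beq_iff_eq, Bool.not_eq_true'] at hh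
      have hlt : m < 2 ^ 24 := Golay.codeList_lt (List.mem_filter.1 hm).1
      have e := hd _ (mem_SO.2 ⟨m, hm, rfl⟩) ((disjoint_pts hlt).2 hh.1.1)
      have h1 : σ i ∈ σ • Golay.pts m := by
        rw [← Equiv.Perm.smul_def, Finset.smul_mem_smul_finset_iff, Golay.mem_pts]; exact hh.1.2
      rw [e, Golay.mem_pts, hh.2] at h1
      exact Bool.noConfusion h1
  subst hσ1
  obtain ⟨m, hm, rfl⟩ := mem_SO.1 hcS
  refine (psi_four hcS.1 rfl ⟨m, fixed_signs m hm fun P hP => ?_, rfl⟩).imp id fun h => Subtype.ext h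
  have hPg : Golay.permOf P ∈ grp tr4SG := Subgroup.subset_closure ⟨P, hP, rfl⟩
  have hv := (gens_four P hP).1
  have h := hc _ (psi_kap_mem (⟨_, hPg⟩, ⟨∅, empty_SO⟩))
  rw [← map_mul, ← map_mul, psi_eq] at h
  have hneg : ∀ q r : Cs, q = ⟨negCo, negCo_mem⟩ * r ↔ (q : Co0) = negCo * (r : Co0) := fun q r => Subtype.ext_iff
  rw [Subtype.ext_iff, hneg] at h
  simp only [Subgroup.coe_mul, kap, negCo, mono_mul] at h
  have hlt : m < 2 ^ 24 := Golay.codeList_lt (List.mem_filter.1 hm).1
  rcases h with h | h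
  · obtain ⟨-, h⟩ := mono_inj _ _ _ _ h
    simp only [one_smul, Finset.smul_finset_empty, ← Finset.bot_eq_empty, symmDiff_bot, bot_symmDiff] at h
    rw [Golay.permOf_smul_pts hv] at h
    exact (Golay.pts_injOn hlt (imgMask_lt hv _) h).symm
  · obtain ⟨-, h⟩ := mono_inj _ _ _ _ h
    simp only [one_smul, Finset.smul_finset_empty, ← Finset.bot_eq_empty, symmDiff_bot, bot_symmDiff] at h
    have h2 := congrArg (fun s => i0 ∈ s) h
    have h3 : i0 ∈ Golay.permOf P • Golay.pts m ↔ i0 ∈ Golay.pts m := by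
      have e : (Golay.permOf P).symm i0 = i0 := by
        rw [Equiv.symm_apply_eq, (Golay.Census.mem_ker_oct.1 hPg).2 i0 i0_mem]
      rw [symm_mem_smul, e]
    simp [Finset.mem_symmDiff, h3] at h2

/-- A 2-group with centre of order two containing all squares is extraspecial, if it is not abelian. -/
theorem extraspecial_of_squares {Q : Type*} [Group Q] [Finite Q] {n : ℕ} (hcard : Nat.card Q = 2 ^ n) (hn : 2 ≤ n)
    (hZ : Nat.card (Subgroup.center Q) = 2) (hsq : ∀ x : Q, x ^ 2 ∈ Subgroup.center Q) :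
    Cfsg.IsExtraspecial 2 Q := by
  haveI : Fact (Nat.Prime 2) := ⟨Nat.prime_two⟩
  have hp : IsPGroup 2 Q := IsPGroup.of_card hcard
  have h1 : commutator Q ≤ Subgroup.center Q := by
    rw [commutator_eq_closure, Subgroup.closure_le]
    rintro _ ⟨x, y, rfl⟩
    have e : ⁅x, y⁆ = x ^ 2 * (x⁻¹ * y) ^ 2 * (y ^ 2)⁻¹ := by
      rw [commutatorElement_def]
      simp only [pow_two]
      group
    rw [e]
    exact mul_mem (mul_mem (hsq x) (hsq _)) (inv_mem (hsq y))
  have hne : commutator Q ≠ ⊥ := fun e => by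
    have : Subgroup.center Q = ⊤ := eq_top_iff.2 fun x _ => Subgroup.mem_center_iff.2 fun g => by
      have h : ⁅g, x⁆ ∈ commutator Q := Subgroup.commutator_mem_commutator (Subgroup.mem_top _) (Subgroup.mem_top _)
      rw [e, Subgroup.mem_bot] at h
      exact commutatorElement_eq_one_iff_mul_comm.1 h
    rw [this, Subgroup.card_top, hcard] at hZ
    have : 2 ^ 2 ≤ 2 ^ n := Nat.pow_le_pow_right (by norm_num) hn
    omega
  have hc : commutator Q = Subgroup.center Q := by
    refine Subgroup.eq_of_le_of_card_ge h1 ?_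
    rw [hZ]
    have := (Subgroup.one_lt_card_iff_ne_bot _).2 hne
    omega
  refine ⟨⟨hp, le_antisymm ?_ ?_, hc⟩, hZ⟩
  · exact Grp.frattini_le_of_elementary Nat.prime_two h1 hsq
  · exact hc ▸ Grp.pGroup_commutator_le_frattini hp

theorem extraspecial : Cfsg.IsExtraspecial 2 theta.ker := by
  have hz : ∀ x : theta.ker, x ∈ Subgroup.center theta.ker ↔ x = 1 ∨ x = ⟨zC, zC_mem⟩ := by
    intro x
    constructor
    · intro h
      exact (center_Q x.2 fun y hy => congrArg Subtype.val (Subgroup.mem_center_iff.1 h ⟨y, hy⟩).symm).imp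
        Subtype.ext Subtype.ext
    · rintro (rfl | rfl)
      · exact one_mem _
      · exact Subgroup.mem_center_iff.2 fun y => Subtype.ext (Subtype.ext (eO_comm_C y))
  refine extraspecial_of_squares (n := 9) card_Q (by norm_num) ?_ fun x => (hz _).2 ?_
  · rw [← SetLike.coe_sort_coe, Nat.card_coe_set_eq, show (Subgroup.center theta.ker : Set theta.ker) =
      {1, ⟨zC, zC_mem⟩} from Set.ext fun x => (hz x).trans (by simp)]
    exact Set.ncard_pair fun h => zC_ne (congrArg Subtype.val h).symm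
  · exact (square_Q x.2).imp (fun h => Subtype.ext h) fun h => Subtype.ext h

theorem simple_G0 : IsSimpleGroup G0 := by
  have h := Cfsg.Agent.S0296.result (F := ZMod 2) 4 le_rfl
  rw [← Classical.coe_qfPlus] at h
  let e : Cfsg.POmega (ZMod 2) ⇑QQ ≃* G0 :=
    (QuotientGroup.quotientMulEquivOfEq Classical.OmegaEightTwo.center_eq_bot).trans QuotientGroup.quotientBot
  exact e.isSimpleGroup_congr.1 h

theorem exists_moved : ∃ (w y : C), y ∈ theta.ker ∧ w * y * w⁻¹ ≠ y ∧ w * y * w⁻¹ ≠ y * zC := by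
  obtain ⟨hP, hPo, hm⟩ := moving
  obtain ⟨m, hm, hh⟩ := List.any_eq_true.1 hm
  simp only [Bool.and_eq_true, beq_iff_eq, List.all_eq_true, Bool.not_eq_true', beq_eq_false_iff_ne] at hh
  have hv : Golay.valid (octI.getD 0 0) = true := by
    rw [Golay.inM24, Bool.and_eq_true] at hP; exact hP.1
  have hσ := Golay.permOf_mem_M24 hP
  let w : Cs := ⟨mono hσ empty_code, (mono_mem_Cs _ _).2 (by rw [Golay.permOf_smul_pts hv, hPo])⟩
  have hd : Golay.pts m ∈ SO := mem_SO.2 ⟨m, hm, rfl⟩
  have hlt : m < 2 ^ 24 := Golay.codeList_lt (List.mem_filter.1 hm).1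
  have hsd : Golay.permOf (octI.getD 0 0) • Golay.pts m ∈ supports (golayCode : Set (GolayPt → ZMod 2)) :=
    smul_supports hσ hd.1
  have hconj : ∀ f ∈ four, ∀ g : Cs, (g : Co0) = mono (one_mem M24) hd.1 →
      ∀ (hf : Golay.pts f ∈ supports (golayCode : Set (GolayPt → ZMod 2))),
      (w : Co0) * g ≠ mono (one_mem M24) hf * ((g : Co0) * w) := by
    intro f hf g hg hfs e
    rw [hg] at e
    simp only [w, mono_mul] at e
    obtain ⟨-, e⟩ := mono_inj _ _ _ _ e
    simp only [one_smul, Finset.smul_finset_empty, ← Finset.bot_eq_empty, symmDiff_bot, bot_symmDiff] at e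
    rw [Golay.permOf_smul_pts hv, Golay.pts_symmDiff] at e
    have e2 := Golay.pts_injOn (imgMask_lt hv _)
      (Nat.xor_lt_two_pow (four_lt f hf) hlt) e
    exact hh.2 f hf (by rw [e2, Nat.xor_comm f m, ← Nat.xor_assoc, Nat.xor_self, Nat.zero_xor])
  have hempty : Golay.pts 0 = ∅ := by ext p; simp [Golay.mem_pts]
  have huniv : Golay.pts 16777215 = Finset.univ := by decide +kernel
  have hneg : (negCo : Co0) * eO = mono (one_mem M24) (Golay.symmDiff_mem_supports univ_code om_octad.1) := by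
    rw [negCo, eO, mono_mul]
    exact mono_congr _ _ _ _ (one_mul 1) (by rw [one_smul])
  refine ⟨psi w, psi (kap (1, ⟨_, hd⟩)), psi_kap_mem _, fun e => ?_, fun e => ?_⟩
  · rw [mul_inv_eq_iff_eq_mul, ← map_mul, ← map_mul, psi_eq] at e
    rcases e with e | e
    · refine hconj 0 (by decide) (kap (1, ⟨_, hd⟩)) rfl (hempty.symm ▸ empty_code) ?_
      rw [mono_congr (one_mem M24) (one_mem M24) _ empty_code rfl hempty,
        show mono (one_mem M24) empty_code = 1 from ext_axis fun i => by rw [mono_axis]; simp, one_mul]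
      exact congrArg Subtype.val e
    · refine hconj 16777215 (by decide) (kap (1, ⟨_, hd⟩)) rfl (huniv.symm ▸ univ_code) ?_
      rw [mono_congr (one_mem M24) (one_mem M24) _ univ_code rfl huniv]
      exact congrArg Subtype.val e
  · rw [mul_inv_eq_iff_eq_mul, zC, mul_assoc, ← map_mul, ← map_mul, ← map_mul, psi_eq] at e
    rcases e with e | e
    · refine hconj 5279 (by decide) (kap (1, ⟨_, hd⟩)) rfl om_octad.1 ?_
      have e' : ((w : Co0) * (kap (1, ⟨_, hd⟩) : Co0)) = (kap (1, ⟨_, hd⟩) : Co0) * (eO * (w : Co0)) :=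
        congrArg Subtype.val e
      rw [e', ← mul_assoc, comm_of_mem (kap (1, ⟨_, hd⟩)).2, mul_assoc]
      rfl
    · refine hconj (16777215 ^^^ 5279) (by decide) (kap (1, ⟨_, hd⟩)) rfl
        (by rw [← Golay.pts_symmDiff, huniv]; exact Golay.symmDiff_mem_supports univ_code om_octad.1) ?_
      have e' : ((w : Co0) * (kap (1, ⟨_, hd⟩) : Co0)) =
          negCo * ((kap (1, ⟨_, hd⟩) : Co0) * (eO * (w : Co0))) := congrArg Subtype.val e
      rw [e', ← mul_assoc (kap (1, ⟨_, hd⟩) : Co0), comm_of_mem (kap (1, ⟨_, hd⟩)).2, mul_assoc eO, ← mul_assoc,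
        hneg]
      exact congrArg (· * _) (mono_congr _ _ _ _ rfl (by rw [← Golay.pts_symmDiff, huniv]))

theorem centralizer_Q_le : Subgroup.centralizer (theta.ker : Set C) ≤ theta.ker := by
  haveI := simple_G0
  have hN : (Subgroup.centralizer (theta.ker : Set C)).Normal := inferInstance
  rcases (hN.map theta theta_surjective).eq_bot_or_eq_top with h | h
  · intro x hx
    have hm : theta x ∈ (Subgroup.centralizer (theta.ker : Set C)).map theta := ⟨x, hx, rfl⟩
    rw [h, Subgroup.mem_bot] at hm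
    exact hm
  · exfalso
    obtain ⟨w, y, hy, h1, h2⟩ := exists_moved
    obtain ⟨n, hn, e⟩ : theta w ∈ (Subgroup.centralizer (theta.ker : Set C)).map theta := h ▸ Subgroup.mem_top _
    have hq : n⁻¹ * w ∈ theta.ker := by
      rw [MonoidHom.mem_ker, map_mul, map_inv, e, inv_mul_cancel]
    revert hq h1 h2
    generalize hqd : n⁻¹ * w = q
    intro h1 h2 hq
    obtain rfl : w = n * q := by rw [← hqd, mul_inv_cancel_left]
    have hc : q * y * q⁻¹ ∈ theta.ker := theta.ker.mul_mem (theta.ker.mul_mem hq hy) (theta.ker.inv_mem hq)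
    have e1 : n * q * y * (n * q)⁻¹ = q * y * q⁻¹ := by
      have := Subgroup.mem_centralizer_iff.1 hn _ hc
      calc n * q * y * (n * q)⁻¹ = n * (q * y * q⁻¹) * n⁻¹ := by group
        _ = q * y * q⁻¹ := by rw [← this, mul_inv_cancel_right]
    rw [e1] at h1 h2
    obtain ⟨-, hcomm⟩ := Fus.extraspecial_two_facts extraspecial
    have hcen : ⁅(⟨q, hq⟩ : theta.ker), ⟨y, hy⟩⁆ ∈ Subgroup.center theta.ker := hcomm _ _
    have hk : q * y * q⁻¹ * y⁻¹ = 1 ∨ q * y * q⁻¹ * y⁻¹ = zC :=
      center_Q (theta.ker.mul_mem hc (theta.ker.inv_mem hy)) fun u hu =>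
        congrArg Subtype.val (Subgroup.mem_center_iff.1 hcen ⟨u, hu⟩).symm
    rcases hk with hk | hk
    · exact h1 (mul_inv_eq_one.1 hk)
    · refine h2 (eq_mul_of_mul_inv_eq hk |>.trans ?_)
      exact Subtype.ext (eO_comm_C y).symm

theorem gfit_eq : Cfsg.generalizedFittingSubgroup C = theta.ker := by
  haveI : Fact (Nat.Prime 2) := ⟨Nat.prime_two⟩
  have hle : theta.ker ≤ Cfsg.pCore 2 C := le_sSup ⟨inferInstance, IsPGroup.of_card card_Q⟩
  have hge : Cfsg.pCore 2 C ≤ theta.ker := by
    haveI := simple_G0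
    have hN : ((Cfsg.pCore 2 C).map theta).Normal :=
      (Grp.pCore_isNormal : (Cfsg.pCore 2 C).Normal).map _ theta_surjective
    rcases hN.eq_bot_or_eq_top with h | h
    · intro x hx
      have hm : theta x ∈ (Cfsg.pCore 2 C).map theta := ⟨x, hx, rfl⟩
      rw [h, Subgroup.mem_bot] at hm
      exact hm
    · exfalso
      obtain ⟨k, hk⟩ := ((Grp.pCore_isPGroup (p := 2) (G := C)).map theta).exists_card_eq
      rw [h, Subgroup.card_top, Classical.OmegaEightTwo.card_G0] at hk
      have h7 : 7 ∣ 2 ^ k := hk ▸ by norm_num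
      exact absurd ((Nat.Prime.dvd_of_dvd_pow (by norm_num) h7)) (by norm_num)
  have he : Cfsg.pCore 2 C = theta.ker := le_antisymm hge hle
  rw [generalizedFittingSubgroup_eq_of_charP (p := 2) (by
    show Subgroup.centralizer (Cfsg.pCore 2 C : Set C) ≤ Cfsg.pCore 2 C
    rw [he]; exact centralizer_Q_le), he]

theorem not_weakly_closed : ∃ g : Spor.Co1, (∃ hq : g * mk eO * g⁻¹ ∈ C, (⟨g * mk eO * g⁻¹, hq⟩ : C) ∈ theta.ker) ∧
    g * mk eO * g⁻¹ ≠ mk eO := by
  obtain ⟨m, hm, hpop, hfour⟩ := other_octad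
  have hS : Golay.pts m ∈ SO := mem_SO.2 ⟨m, hm, rfl⟩
  have hlt : m < 2 ^ 24 := Golay.codeList_lt (List.mem_filter.1 hm).1
  obtain ⟨σ, hσ, e⟩ := Golay.exists_smul_octA (o := Golay.pts m) ⟨hS.1, by rw [Golay.card_pts, hpop]⟩
  let a : Co0 := mono hσ empty_code
  let k : Cs := kap (1, ⟨_, hS⟩)
  have hk : a * eO = (k : Co0) * a := by
    simp only [a, k, kap, eO, mono_mul]
    refine mono_congr _ _ _ _ (by simp) ?_
    simp only [one_smul, OneMemClass.coe_one, ← Finset.bot_eq_empty, symmDiff_bot, bot_symmDiff]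
    exact e
  have hkk : mk a * mk eO * (mk a)⁻¹ = (psi k : Spor.Co1) := by
    rw [psi_val, mul_inv_eq_iff_eq_mul, ← map_mul, ← map_mul, hk]
  refine ⟨mk a, ⟨hkk ▸ (psi k).2, ?_⟩, ?_⟩
  · have : (⟨mk a * mk eO * (mk a)⁻¹, hkk ▸ (psi k).2⟩ : C) = psi k := Subtype.ext hkk
    rw [this]
    exact psi_kap_mem _
  · rw [hkk, psi_val, ne_eq, mk_eq]
    rintro (h | h)
    · simp only [k, kap, eO] at h
      obtain ⟨-, h⟩ := mono_inj _ _ _ _ h
      exact hfour (by rw [Golay.pts_injOn hlt (by norm_num) h]; decide)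
    · simp only [k, kap, negCo, eO, mono_mul] at h
      obtain ⟨-, h⟩ := mono_inj _ _ _ _ h
      have h3 := congrArg Finset.card h
      rw [one_smul, Golay.card_pts, hpop] at h3
      revert h3
      decide +kernel

end Cfsg.Agent.Fus.Co1Centre
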