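import Cfsg.Agent.Lib.Spor.Leech.Monomial

/-!
Data for the octad sublattice of the rank 24 lattice: a root basis with the inverse of its Gram matrix, a basis lifting a
hyperbolic basis modulo two, and words for four involutions of the orthogonal group.
-/

set_option autoImplicit false

namespace Cfsg.Agent.Fus.Co1Centre

/-- The root basis. -/
def rootsL : List (List ℤ) :=
  [[-2, -2, 2, 2, 2, 0, 0, 2, 0, 0, -2, 0, -2, 0, 0, 0, 0, 0, 0, 0, 0, 0, 0, 0],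
   [-2, 2, -2, 2, 2, 0, 0, -2, 0, 0, 2, 0, -2, 0, 0, 0, 0, 0, 0, 0, 0, 0, 0, 0],
   [-2, 2, 2, -2, -2, 0, 0, 2, 0, 0, 2, 0, -2, 0, 0, 0, 0, 0, 0, 0, 0, 0, 0, 0],
   [-2, 2, 2, -2, 2, 0, 0, -2, 0, 0, -2, 0, 2, 0, 0, 0, 0, 0, 0, 0, 0, 0, 0, 0],
   [2, -2, -2, -2, 2, 0, 0, 2, 0, 0, 2, 0, -2, 0, 0, 0, 0, 0, 0, 0, 0, 0, 0, 0],
   [2, -2, -2, 2, -2, 0, 0, 2, 0, 0, -2, 0, 2, 0, 0, 0, 0, 0, 0, 0, 0, 0, 0, 0],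
   [2, -2, 2, -2, -2, 0, 0, -2, 0, 0, 2, 0, 2, 0, 0, 0, 0, 0, 0, 0, 0, 0, 0, 0],
   [4, 4, 0, 0, 0, 0, 0, 0, 0, 0, 0, 0, 0, 0, 0, 0, 0, 0, 0, 0, 0, 0, 0, 0]]

/-- The inverse of the Gram matrix of the root basis, divided by sixteen. -/
def gramInv : List (List ℤ) :=
  [[6, 10, 6, 8, 4, 12, 8, 3],
   [10, 20, 12, 16, 8, 24, 15, 5],
   [6, 12, 8, 10, 5, 15, 9, 3],
   [8, 16, 10, 14, 7, 20, 12, 4],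
   [4, 8, 5, 7, 4, 10, 6, 2],
   [12, 24, 15, 20, 10, 30, 18, 6],
   [8, 15, 9, 12, 6, 18, 12, 4],
   [3, 5, 3, 4, 2, 6, 4, 2]]

/-- The lifts of a hyperbolic basis. -/
def hypL : List (List ℤ) :=
  [[-4, 0, 0, 4, 4, 0, 0, 0, 0, 0, 0, 0, -4, 0, 0, 0, 0, 0, 0, 0, 0, 0, 0, 0],
   [-4, 4, 0, 0, 0, 0, 0, 0, 0, 0, 4, 0, -4, 0, 0, 0, 0, 0, 0, 0, 0, 0, 0, 0],
   [-4, 4, 4, -4, 0, 0, 0, 0, 0, 0, 0, 0, 0, 0, 0, 0, 0, 0, 0, 0, 0, 0, 0, 0],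
   [2, 2, 2, 2, 2, 0, 0, 2, 0, 0, -6, 0, 2, 0, 0, 0, 0, 0, 0, 0, 0, 0, 0, 0],
   [0, -4, 0, 4, 0, 0, 0, 4, 0, 0, -4, 0, 0, 0, 0, 0, 0, 0, 0, 0, 0, 0, 0, 0],
   [0, 0, 4, -4, -4, 0, 0, 0, 0, 0, 4, 0, 0, 0, 0, 0, 0, 0, 0, 0, 0, 0, 0, 0],
   [-4, 0, 0, 0, 4, 0, 0, 4, 0, 0, 4, 0, -8, 0, 0, 0, 0, 0, 0, 0, 0, 0, 0, 0],
   [0, 8, 0, 0, 0, 0, 0, 0, 0, 0, 0, 0, 0, 0, 0, 0, 0, 0, 0, 0, 0, 0, 0, 0]]

/-- The classes of the roots. -/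
def rootCls : List ℕ := [138, 139, 137, 141, 200, 154, 169, 149]

/-- Half of the differences. -/
def halfL : List (List ℤ) :=
  [[0, -8, 0, 0, 0, 0, 0, 0, 0, 0, 0, 0, 0, 0, 0, 0, 0, 0, 0, 0, 0, 0, 0, 0],
   [2, -6, -2, -2, -2, 0, 0, -2, 0, 0, 2, 0, 2, 0, 0, 0, 0, 0, 0, 0, 0, 0, 0, 0],
   [0, -4, 0, -4, -4, 0, 0, 0, 0, 0, 4, 0, 0, 0, 0, 0, 0, 0, 0, 0, 0, 0, 0, 0],
   [2, -6, -2, -2, -2, 0, 0, -2, 0, 0, 2, 0, 2, 0, 0, 0, 0, 0, 0, 0, 0, 0, 0, 0],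
   [2, -6, -2, -2, -2, 0, 0, -2, 0, 0, 2, 0, 2, 0, 0, 0, 0, 0, 0, 0, 0, 0, 0, 0],
   [2, -6, -2, -2, -2, 0, 0, -2, 0, 0, 2, 0, 2, 0, 0, 0, 0, 0, 0, 0, 0, 0, 0, 0],
   [2, -6, -2, -2, -2, 0, 0, -2, 0, 0, 2, 0, 2, 0, 0, 0, 0, 0, 0, 0, 0, 0, 0, 0],
   [6, -2, -2, -2, -2, 0, 0, -2, 0, 0, 2, 0, 2, 0, 0, 0, 0, 0, 0, 0, 0, 0, 0, 0]]

/-- The tree on the roots: each root after the first with an earlier one not orthogonal to it. -/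
def rootTree : List (ℕ × ℕ) := [(6, 0), (7, 0), (1, 6), (5, 1), (2, 5), (3, 5), (4, 3)]

/-- The inverses of the two generators of the octad stabiliser. -/
def octI : List ℕ := [0xadcae34ec9a2d077b2320c1a251003, 0xaaec5925f06d2e08b1d33990220543]

/-- The images of the basis, for each letter. -/
def colsL : List (List ℕ) :=
  [[1, 2, 4, 8, 16, 32, 72, 132],
   [112, 16, 6, 8, 18, 115, 64, 128],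
   [48, 52, 16, 8, 82, 80, 7, 128],
   [1, 2, 132, 204, 16, 32, 192, 128],
   [129, 2, 132, 217, 144, 32, 64, 128],
   [129, 130, 132, 250, 16, 160, 64, 128],
   [1, 130, 132, 235, 144, 160, 64, 128],
   [1, 130, 4, 174, 16, 160, 192, 128],
   [1, 2, 4, 8, 16, 32, 64, 128],
   [1, 2, 4, 8, 16, 32, 64, 128],
   [129, 130, 4, 189, 144, 32, 192, 128]]

/-- The words. -/
def wordsL : List (List ℕ) :=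
  [[7, 2, 0, 2, 1, 2, 4, 0, 2, 1, 5],
   [2, 5, 0, 1, 4, 2, 10, 0, 2, 7, 1, 2],
   [5, 1, 0, 1, 10, 0, 2, 1, 0, 1, 0, 1],
   [1, 1, 0, 5, 6, 10, 0, 1, 1, 2, 3]]

end Cfsg.Agent.Fus.Co1Centre
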