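import Cfsg.Agent.Lib.Fus.Co1Centre.Word

/-!
The stabiliser of the octad sublattice and its map onto the commutator subgroup of the orthogonal group.
-/

set_option autoImplicit false
set_option maxRecDepth 100000

open Matrix Cfsg
open scoped Pointwise

namespace Cfsg.Agent.Fus.Co1Centre

open Cfsg.Agent.Spor Cfsg.Agent.Spor.Leech
open Cfsg.Agent.Classical.OmegaEightTwo (O0 QQ)

instance finite_Co0 : Finite Co0 := Nat.finite_of_card_ne_zero (by rw [card_Co0]; norm_num)

/-- The stabiliser of the sublattice. -/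
def Cs : Subgroup Co0 := MulAction.stabilizer Co0 (Lm : Set leechLattice)

theorem smul_mem_Lm {g : Co0} (hg : g ∈ Cs) {v : leechLattice} (hv : v ∈ Lm) : g • v ∈ Lm := by
  have h : g • v ∈ g • (Lm : Set leechLattice) := Set.smul_mem_smul_set hv
  rwa [MulAction.mem_stabilizer_iff.1 hg] at h

theorem mem_Cs {g : Co0} (h : ∀ v ∈ Lm, g • v ∈ Lm) : g ∈ Cs := by
  refine MulAction.mem_stabilizer_iff.2 (Set.Subset.antisymm (by rintro _ ⟨v, hv, rfl⟩; exact h v hv) fun v hv => ?_)
  have hpow : ∀ n : ℕ, g ^ n • v ∈ Lm := by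
    intro n
    induction n with
    | zero => rwa [pow_zero, one_smul]
    | succ n ih => rw [pow_succ', mul_smul]; exact h _ ih
  refine ⟨g ^ (orderOf g - 1) • v, hpow _, ?_⟩
  show g • g ^ (orderOf g - 1) • v = v
  rw [← mul_smul, ← pow_succ', Nat.sub_add_cancel (orderOf_pos g), pow_orderOf_eq_one, one_smul]

theorem red_nsmul {u : leechLattice} (hu : u ∈ Lm) (n : ℕ) :
    red ((n • u : leechLattice) : Vec) = n • red (u : Vec) := by
  induction n with
  | zero => rw [zero_nsmul, zero_nsmul]; exact red_zero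
  | succ n ih => rw [succ_nsmul, succ_nsmul, red_add (Lm.nsmul_mem hu n) hu, ih]

theorem red_sum {ι : Type} (s : Finset ι) (f : ι → leechLattice) (hf : ∀ i ∈ s, f i ∈ Lm) :
    red ((∑ i ∈ s, f i : leechLattice) : Vec) = ∑ i ∈ s, red (f i : Vec) := by
  induction s using Finset.cons_induction with
  | empty => simp only [Finset.sum_empty]; exact red_zero
  | cons a s ha ih =>
    rw [Finset.sum_cons, Finset.sum_cons, red_add (hf a (Finset.mem_cons_self a s))
      (AddSubgroup.sum_mem _ fun i hi => hf i (Finset.mem_cons_of_mem hi)),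
      ih fun i hi => hf i (Finset.mem_cons_of_mem hi)]

/-- The matrix of a member. -/
def mat (g : Cs) : Matrix (Fin 4 ⊕ Fin 4) (Fin 4 ⊕ Fin 4) (ZMod 2) :=
  fun i j => red (((g : Co0) • bv j : leechLattice) : Vec) i

theorem red_smul (g : Cs) {v : leechLattice} (hv : v ∈ Lm) :
    red (((g : Co0) • v : leechLattice) : Vec) = mat g *ᵥ red (v : Vec) := by
  obtain ⟨w, hw, e⟩ := exists_sub_lift hv
  have hm : ∀ u ∈ Lm, (g : Co0) • u ∈ Lm := fun u hu => smul_mem_Lm g.2 hu
  conv_lhs => rw [e]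
  rw [co_add, red_add (hm _ (lift_mem _)) (hm _ (Lm.nsmul_mem hw 2)), co_nsmul, red_two (hm _ hw), add_zero, lift,
    co_sum, red_sum _ _ fun l _ => hm _ (Lm.nsmul_mem (bv_mem l) _)]
  funext i
  rw [Finset.sum_apply, Matrix.mulVec, dotProduct]
  refine Finset.sum_congr rfl fun l _ => ?_
  rw [co_nsmul, red_nsmul (hm _ (bv_mem l)), Pi.smul_apply, nsmul_eq_mul, ZMod.natCast_zmod_val, mul_comm]
  rfl

theorem mat_mulVec (g : Cs) (x : V) : mat g *ᵥ x = red (((g : Co0) • lift x : leechLattice) : Vec) := by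
  rw [red_smul g (lift_mem x), red_lift]

theorem mat_one : mat 1 = 1 := Matrix.ext_of_mulVec_single fun i => by
  rw [mat_mulVec, Matrix.one_mulVec, OneMemClass.coe_one, one_smul, red_lift]

theorem mat_mul (g h : Cs) : mat (g * h) = mat g * mat h := Matrix.ext_of_mulVec_single fun i => by
  rw [mat_mulVec, Subgroup.coe_mul, mul_smul, red_smul g (smul_mem_Lm h.2 (lift_mem _)), red_smul h (lift_mem _),
    red_lift, Matrix.mulVec_mulVec]

/-- The matrix map. -/
def matHom : Cs →* Matrix (Fin 4 ⊕ Fin 4) (Fin 4 ⊕ Fin 4) (ZMod 2) where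
  toFun := mat
  map_one' := mat_one
  map_mul' := mat_mul

theorem isometry_mat (g : Cs) : matHom.toHomUnits g ∈ isometryGroup (ZMod 2) ⇑QQ := by
  intro u v
  show QQ (mat g *ᵥ u) = QQ u
  rw [Classical.coe_qfPlus, mat_mulVec, quad_red (smul_mem_Lm g.2 (lift_mem u)), co_norm, ← quad_red (lift_mem u),
    red_lift]

/-- The map to the isometries. -/
noncomputable def Phi : Cs →* O0 := matHom.toHomUnits.codRestrict _ isometry_mat

theorem ogVal_Phi (g : Cs) : Classical.OrthAut.ogVal (Phi g) = mat g := rfl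

theorem mem_ker {g : Cs} :
    g ∈ Phi.ker ↔ ∀ v ∈ Lm, red (((g : Co0) • v : leechLattice) : Vec) = red (v : Vec) := by
  rw [MonoidHom.mem_ker]
  constructor
  · intro h v hv
    rw [red_smul g hv, ← ogVal_Phi, h, Classical.OrthAut.ogVal_one, Matrix.one_mulVec]
  · intro h
    refine Classical.OrthAut.ogVal_ext (Matrix.ext_of_mulVec_single fun i => ?_)
    rw [ogVal_Phi, mat_mulVec, Classical.OrthAut.ogVal_one, Matrix.one_mulVec, h _ (lift_mem _), red_lift]

theorem genC_mem {t : ℕ} (ht : t < 11) : genC t ∈ Cs := by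
  refine mem_Cs fun v hv => ?_
  rw [expand hv, co_sum]
  refine AddSubgroup.sum_mem _ fun k _ => ?_
  rw [co_zsmul]
  refine AddSubgroup.zsmul_mem _ (mem_Lm.2 fun i hi => ?_) _
  rw [genC_val ht, R_val]
  exact root_ok t ht k k.2 i hi

open scoped _root_.Classical in
/-- A letter as a member of the stabiliser. -/
noncomputable def genS (t : ℕ) : Cs := if h : t < 11 then ⟨genC t, genC_mem h⟩ else 1

theorem mat_genS {t : ℕ} (ht : t < 11) : mat (genS t) = tabM t := by
  funext i j
  show red (((genS t : Co0) • bv j : leechLattice) : Vec) i = _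
  rw [genS, dif_pos ht, genC_val ht, red_eq_redL, bv_val]
  exact tab_ok ht i j

theorem mat_ev : ∀ (w : List ℕ), (∀ t ∈ w, t < 11) → ∀ x, mat (Cos.ev genS w) *ᵥ x = evV w x
  | [], _, x => by rw [Cos.ev, mat_one, Matrix.one_mulVec]; rfl
  | t :: w, h, x => by
    rw [Cos.ev, mat_mul, ← Matrix.mulVec_mulVec, mat_ev w (fun s hs => h s (List.mem_cons_of_mem _ hs)),
      mat_genS (h t (List.mem_cons_self ..))]
    rfl

open Cfsg.Agent.Classical.OmegaEightTwo in
theorem Phi_word {s : ℕ} (hs : s < 4) : Phi (Cos.ev genS (wordsL.getD s [])) = gO s := by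
  refine Classical.OrthAut.ogVal_ext (Matrix.ext_of_mulVec_single fun j => ?_)
  obtain ⟨h1, h2⟩ := pair_ok s hs
  rw [ogVal_Phi, mat_ev _ (letters_ok s hs), word_ok s hs j, gO, if_pos hs, Classical.OrthAut.ogVal_mul,
    ← Matrix.mulVec_mulVec, rN_apply h2, rN_apply h1]

theorem omega_le_range : Omega (ZMod 2) ⇑QQ ≤ Phi.range := by
  rw [← Classical.OmegaEightTwo.closure_gO, Subgroup.closure_le]
  rintro _ ⟨s, hs, rfl⟩
  exact ⟨_, Phi_word hs⟩

theorem axis_mem_iff {i : GolayPt} : axis i ∈ Lm ↔ i ∈ Om := by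
  rw [mem_Lm, InO, axis_val]
  refine ⟨fun h => ?_, fun hi j hj => Pi.single_eq_of_ne (fun e : j = i => hj (e ▸ hi)) _⟩
  by_contra hi
  have := h i hi
  rw [Pi.single_eq_same] at this
  norm_num at this

theorem mono_mem_Cs {σ : Equiv.Perm GolayPt} (hσ : σ ∈ M24) {c : Finset GolayPt}
    (hc : c ∈ supports (golayCode : Set (GolayPt → ZMod 2))) : mono hσ hc ∈ Cs ↔ σ • Om = Om := by
  refine ⟨fun h => Finset.eq_of_subset_of_card_le (fun j hj => ?_) (by rw [Finset.card_smul_finset]), fun h => ?_⟩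
  · obtain ⟨i, hi, rfl⟩ := Finset.mem_smul_finset.1 hj
    have h2 := smul_mem_Lm h (axis_mem_iff.2 hi)
    rw [mono_axis] at h2
    refine axis_mem_iff.1 ?_
    split_ifs at h2
    · simpa using Lm.neg_mem h2
    · exact h2
  · refine mem_Cs fun v hv => mem_Lm.2 fun i hi => ?_
    have h2 : σ.symm i ∉ Om := fun hm => hi (by
      have := Finset.smul_mem_smul_finset (a := σ) hm
      rwa [Equiv.Perm.smul_def, Equiv.apply_symm_apply, h] at this)
    rw [mono_apply, signedPerm, hv _ h2]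
    simp

theorem congr2_neg (a : leechLattice) : cls (-a) = cls a :=
  cls_eq.2 ⟨((-a : leechLattice) : Vec), (-a).2, by
    funext p
    simp only [AddSubgroup.coe_neg, Pi.sub_apply, Pi.neg_apply, Pi.smul_apply, two_nsmul, Pi.add_apply]
    ring⟩

theorem crossOf_congr {u v : leechLattice} (h : cls u = cls v) : crossOf u = crossOf v := by
  unfold crossOf; rw [h]

theorem root_norm : ∀ k < 8, sqNorm (ofList (rootsL.getD k [])) = 32 := by decide +kernel

theorem tree_ok : ∀ p ∈ rootTree, p.1 < 8 ∧ p.2 < 8 ∧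
    dotInt (ofList (rootsL.getD p.1 [])) (ofList (rootsL.getD p.2 [])) ≠ 0 := by
  decide +kernel

theorem ker_sign {g : Cs} (hg : g ∈ Phi.ker) :
    ∃ ε : ℤ, (ε = 1 ∨ ε = -1) ∧ ∀ v ∈ Lm, (g : Co0) • v = ε • v := by
  have hR : ∀ k, (g : Co0) • R k = R k ∨ (g : Co0) • R k = -R k := by
    intro k
    have hgR : (g : Co0) • R k ∈ Lm := smul_mem_Lm g.2 (R_mem k)
    obtain ⟨w, -, e⟩ := exists_half (Lm.sub_mem hgR (R_mem k)) (by
      rw [sub_eq_add_neg, red_add hgR (Lm.neg_mem (R_mem k)), red_neg (R_mem k), mem_ker.1 hg _ (R_mem k)]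
      funext l; exact CharTwo.add_self_eq_zero _)
    have hn : sqNorm (R k : Vec) = 32 := by rw [R_val]; exact root_norm k k.2
    rcases congr_short ((g : Co0) • R k).2 (R k).2 (by rw [co_norm, hn]; norm_num) (by rw [hn]; norm_num)
        ⟨w, w.2, by rw [← AddSubgroup.coe_sub, e, AddSubgroup.coe_nsmul]⟩ with h | h | h
    · exact Or.inl (Subtype.ext h)
    · exact Or.inr (Subtype.ext (by rw [h, AddSubgroup.coe_neg]))
    · rw [co_norm, hn] at h
      exact absurd h.1 (by norm_num)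
  obtain ⟨ε, hε, e0⟩ : ∃ ε : ℤ, (ε = 1 ∨ ε = -1) ∧ (g : Co0) • R 0 = ε • R 0 := by
    rcases hR 0 with h | h
    · exact ⟨1, Or.inl rfl, by rw [h, one_zsmul]⟩
    · exact ⟨-1, Or.inr rfl, by rw [h, neg_one_zsmul]⟩
  have step : ∀ a b : Fin 8, ((a : ℕ), (b : ℕ)) ∈ rootTree → (g : Co0) • R b = ε • R b →
      (g : Co0) • R a = ε • R a := by
    intro a b hab hb
    have hd : dotInt (R a : Vec) (R b : Vec) ≠ 0 := by rw [R_val, R_val]; exact (tree_ok _ hab).2.2
    have h := co_dot (g : Co0) (R a) (R b)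
    rw [hb, AddSubgroup.coe_zsmul, dotInt_comm, dot_smul, dotInt_comm] at h
    rcases hε with rfl | rfl <;> rcases hR a with ha | ha <;>
      simp only [ha, one_zsmul, neg_one_zsmul, AddSubgroup.coe_neg] at h ⊢
    · exact absurd (by simp [dotInt] at h ⊢; omega) hd
    · exact absurd (by simp [dotInt] at h ⊢; omega) hd
  have h6 := step 6 0 (by decide) e0
  have h7 := step 7 0 (by decide) e0
  have h1 := step 1 6 (by decide) h6
  have h5 := step 5 1 (by decide) h1
  have h2 := step 2 5 (by decide) h5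
  have h3 := step 3 5 (by decide) h5
  have h4 := step 4 3 (by decide) h3
  have hall : ∀ k, (g : Co0) • R k = ε • R k := by
    intro k
    fin_cases k <;> assumption
  refine ⟨ε, hε, fun v hv => ?_⟩
  rw [expand hv, co_sum, Finset.smul_sum]
  exact Finset.sum_congr rfl fun k _ => by rw [co_zsmul, hall, smul_comm]

/-- A point of the octad. -/
def i0 : GolayPt := Golay.pt 0

theorem i0_mem : i0 ∈ Om := by decide +kernel

theorem ker_le_crossStab {g : Cs} (hg : g ∈ Phi.ker) : (g : Co0) ∈ crossStab := by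
  obtain ⟨ε, hε, h⟩ := ker_sign hg
  refine MulAction.mem_stabilizer_iff.2 ?_
  rw [← crossOf_axis i0, smul_crossOf, h _ (axis_mem_iff.2 i0_mem)]
  rcases hε with rfl | rfl
  · rw [one_zsmul]
  · rw [neg_one_zsmul, crossOf_congr (congr2_neg _)]

end Cfsg.Agent.Fus.Co1Centre
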