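import Cfsg.Agent.Lib.Fus.Co1Centre.Data
import Cfsg.Agent.Lib.Spor.Golay.M24Facts
import Cfsg.Prelude.Def_Classical

/-!
The lattice vectors supported on one octad: a rescaled even unimodular lattice, and its reduction modulo two as an
eight-dimensional orthogonal space of plus type.
-/

set_option autoImplicit false
set_option maxRecDepth 100000

namespace Cfsg.Agent.Fus.Co1Centre

open Cfsg.Agent.Spor Cfsg.Agent.Spor.Leech

/-- The octad. -/
abbrev Om : Finset GolayPt := Golay.pts 5279

/-- Supported on the octad. -/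
def InO (x : Vec) : Prop := ∀ i ∉ Om, x i = 0

theorem om_octad : Om ∈ octads := Golay.pts_octA_mem

theorem card_om : Om.card = 8 := om_octad.2

/-- The structure of a vector supported on the octad. -/
theorem structO {x : Vec} (hx : x ∈ leechLattice) (h : InO x) :
    ∃ (e : ℤ) (α : Vec), (∀ i ∈ Om, x i = 2 * e + 4 * α i) ∧ (∑ i ∈ Om, α i) % 2 = 0 := by
  obtain ⟨m, a, hm, hxa, hca, hs⟩ := mem_lattice.1 hx
  obtain ⟨j, hj⟩ : ∃ j, j ∉ Om := by
    by_contra hc
    push Not at hc
    have := Finset.eq_univ_iff_forall.2 hc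
    have h8 := card_om
    rw [this, Finset.card_univ, Golay.card_golayPt] at h8
    omega
  have hj0 := hxa j
  rw [h j hj] at hj0
  obtain rfl : m = 0 := by omega
  have ha : ∀ i ∉ Om, a i = 0 := fun i hi => by
    have := hxa i; rw [h i hi] at this; omega
  have hsub : support₂ (par a) ⊆ Om := fun i hi => by
    by_contra hio
    rw [support₂, Finset.mem_filter, par, ha i hio, Int.cast_zero] at hi
    exact hi.2 rfl
  have hcase : support₂ (par a) = ∅ ∨ support₂ (par a) = Om := by
    have hle := Finset.card_le_card hsub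
    rw [card_om] at hle
    rcases code_weight hca with e | e | e | e | e
    · exact Or.inl (Finset.card_eq_zero.1 e)
    · exact Or.inr (Finset.eq_of_subset_of_card_le hsub (by rw [e, card_om]))
    all_goals omega
  have hsum : (∑ i, x i) = 2 * ∑ i ∈ Om, a i := by
    rw [Finset.mul_sum, ← Finset.sum_subset (Finset.subset_univ Om) (fun i _ hi => h i hi)]
    exact Finset.sum_congr rfl fun i _ => by rw [hxa i]; ring
  rw [Int.ModEq, hsum] at hs
  have key : ∀ e : ℤ, (∀ i ∈ Om, a i % 2 = e) → e = 0 ∨ e = 1 →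
      ∃ (e : ℤ) (α : Vec), (∀ i ∈ Om, x i = 2 * e + 4 * α i) ∧ (∑ i ∈ Om, α i) % 2 = 0 := by
    intro e he he01
    refine ⟨e, fun i => a i / 2, fun i hi => ?_, ?_⟩
    · have := he i hi; have := hxa i; simp only; omega
    · have h2 : ∑ i ∈ Om, a i = 8 * e + 2 * ∑ i ∈ Om, a i / 2 := by
        rw [Finset.mul_sum, show (8 : ℤ) * e = ∑ _i ∈ Om, e by rw [Finset.sum_const, card_om]; simp,
          ← Finset.sum_add_distrib]
        exact Finset.sum_congr rfl fun i hi => by have := he i hi; omega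
      show (∑ i ∈ Om, a i / 2) % 2 = 0
      omega
  rcases hcase with hc | hc
  · refine key 0 (fun i hi => ?_) (Or.inl rfl)
    have : i ∉ support₂ (par a) := by rw [hc]; simp
    simp only [support₂, Finset.mem_filter, Finset.mem_univ, true_and, par, intCast_zmod2_ne_zero] at this
    omega
  · refine key 1 (fun i hi => ?_) (Or.inr rfl)
    have : i ∈ support₂ (par a) := hc ▸ hi
    simpa only [support₂, Finset.mem_filter, Finset.mem_univ, true_and, par, intCast_zmod2_ne_zero] using this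

theorem dot_inO {x y : Vec} (h : InO x) : dotInt x y = ∑ i ∈ Om, x i * y i :=
  (Finset.sum_subset (Finset.subset_univ Om) (fun i _ hi => by rw [h i hi]; ring)).symm

theorem dot16 {x y : Vec} (hx : x ∈ leechLattice) (hy : y ∈ leechLattice) (ox : InO x) (oy : InO y) :
    (16 : ℤ) ∣ dotInt x y := by
  obtain ⟨e, α, hα, sα⟩ := structO hx ox
  obtain ⟨f, β, hβ, sβ⟩ := structO hy oy
  have h : dotInt x y = 32 * (e * f) + 8 * e * ∑ i ∈ Om, β i + 8 * f * ∑ i ∈ Om, α i +
      16 * ∑ i ∈ Om, α i * β i := by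
    rw [dot_inO ox, show (32 : ℤ) * (e * f) = ∑ _i ∈ Om, 4 * (e * f) by rw [Finset.sum_const, card_om]; simp; ring,
      Finset.mul_sum, Finset.mul_sum, Finset.mul_sum, ← Finset.sum_add_distrib, ← Finset.sum_add_distrib,
      ← Finset.sum_add_distrib]
    exact Finset.sum_congr rfl fun i hi => by rw [hα i hi, hβ i hi]; ring
  obtain ⟨u, hu⟩ : (2 : ℤ) ∣ ∑ i ∈ Om, α i := Int.dvd_of_emod_eq_zero sα
  obtain ⟨w, hw⟩ : (2 : ℤ) ∣ ∑ i ∈ Om, β i := Int.dvd_of_emod_eq_zero sβ
  exact ⟨2 * (e * f) + e * w + f * u + ∑ i ∈ Om, α i * β i, by rw [h, hu, hw]; ring⟩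

theorem norm32 {x : Vec} (hx : x ∈ leechLattice) (ox : InO x) : (32 : ℤ) ∣ sqNorm x := by
  obtain ⟨e, α, hα, sα⟩ := structO hx ox
  have h : sqNorm x = 32 * (e * e) + 16 * e * ∑ i ∈ Om, α i + 16 * ∑ i ∈ Om, α i * α i := by
    rw [sqNorm, ← Finset.sum_subset (Finset.subset_univ Om) (fun i _ hi => by rw [ox i hi]; ring),
      show (32 : ℤ) * (e * e) = ∑ _i ∈ Om, 4 * (e * e) by rw [Finset.sum_const, card_om]; simp; ring,
      Finset.mul_sum, Finset.mul_sum, ← Finset.sum_add_distrib, ← Finset.sum_add_distrib]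
    exact Finset.sum_congr rfl fun i hi => by rw [hα i hi]; ring
  obtain ⟨u, hu⟩ : (2 : ℤ) ∣ ∑ i ∈ Om, α i := Int.dvd_of_emod_eq_zero sα
  obtain ⟨w, hw⟩ : (2 : ℤ) ∣ ∑ i ∈ Om, α i * α i := by
    rw [Int.dvd_iff_emod_eq_zero, Finset.sum_int_mod]
    have : ∀ i ∈ Om, α i * α i % 2 = α i % 2 := fun i _ => by
      rcases Int.emod_two_eq_zero_or_one (α i) with h | h <;> rw [Int.mul_emod, h] <;> norm_num
    rw [Finset.sum_congr rfl this, ← Finset.sum_int_mod]
    exact sα
  exact ⟨e * e + e * u + w, by rw [h, hu, hw]; ring⟩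

/-- The sublattice supported on the octad. -/
def Lm : AddSubgroup leechLattice where
  carrier := {v | InO (v : Vec)}
  zero_mem' := fun _ _ => rfl
  add_mem' := fun {u v} hu hv i hi => by
    show (u : Vec) i + (v : Vec) i = 0
    rw [hu i hi, hv i hi, add_zero]
  neg_mem' := fun {u} hu i hi => by
    show -(u : Vec) i = 0
    rw [hu i hi, neg_zero]

theorem mem_Lm {v : leechLattice} : v ∈ Lm ↔ InO (v : Vec) := Iff.rfl

/-- A listed vector as a member of the lattice. -/
def vecOf (l : List ℤ) : leechLattice :=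
  if h : inL (ofList l) = true then ⟨ofList l, mem_of_inL h⟩ else 0

theorem vecOf_val {l : List ℤ} (h : inL (ofList l) = true) : (vecOf l : Vec) = ofList l := by
  rw [vecOf, dif_pos h]

theorem vecOf_mem {l : List ℤ} (h : inL (ofList l) = true) (ho : ∀ i ∉ Om, ofList l i = 0) : vecOf l ∈ Lm := by
  rw [mem_Lm, InO, vecOf_val h]; exact ho

/-- The roots. -/
def R (k : Fin 8) : leechLattice := vecOf (rootsL.getD k [])

/-- The coordinate of a position of the orthogonal space. -/
def pos : Fin 4 ⊕ Fin 4 → ℕ := Sum.elim (fun i => i.1) (fun i => 4 + i.1)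

/-- The lifts of the basis. -/
def bv (l : Fin 4 ⊕ Fin 4) : leechLattice := vecOf (hypL.getD (pos l) [])

/-- The halves. -/
def zv (k : Fin 8) : leechLattice := vecOf (halfL.getD k [])

theorem list_ok : ∀ L ∈ [rootsL, hypL, halfL], L.all (fun l => inL (ofList l)) = true ∧ L.length = 8 ∧
    ∀ k < 8, ∀ i ∉ Om, ofList (L.getD k []) i = 0 := by
  decide +kernel

theorem inL_get {L : List (List ℤ)} (hL : L ∈ [rootsL, hypL, halfL]) {k : ℕ} (hk : k < 8) :
    inL (ofList (L.getD k [])) = true := by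
  obtain ⟨h, hl, -⟩ := list_ok L hL
  refine List.all_eq_true.1 h _ ?_
  rw [List.getD_eq_getElem _ _ (by omega)]
  exact List.getElem_mem _

theorem get_mem {L : List (List ℤ)} (hL : L ∈ [rootsL, hypL, halfL]) {k : ℕ} (hk : k < 8) :
    vecOf (L.getD k []) ∈ Lm :=
  vecOf_mem (inL_get hL hk) ((list_ok L hL).2.2 k hk)

theorem pos_lt : ∀ l, pos l < 8 := by decide

theorem R_mem (k : Fin 8) : R k ∈ Lm := get_mem (by simp) k.2

theorem bv_mem (l : Fin 4 ⊕ Fin 4) : bv l ∈ Lm := get_mem (by simp) (pos_lt l)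

theorem zv_mem (k : Fin 8) : zv k ∈ Lm := get_mem (by simp) k.2

theorem R_val (k : Fin 8) : (R k : Vec) = ofList (rootsL.getD k []) := vecOf_val (inL_get (by simp) k.2)

theorem bv_val (l : Fin 4 ⊕ Fin 4) : (bv l : Vec) = ofList (hypL.getD (pos l) []) :=
  vecOf_val (inL_get (by simp) (pos_lt l))

theorem zv_val (k : Fin 8) : (zv k : Vec) = ofList (halfL.getD k []) := vecOf_val (inL_get (by simp) k.2)

theorem identity_ok : ∀ i ∈ Om, ∀ j ∈ Om, (∑ k : Fin 8, ∑ l : Fin 8,
    (gramInv.getD k []).getD l 0 * ofList (rootsL.getD l []) j * ofList (rootsL.getD k []) i) =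
      if i = j then 16 else 0 := by
  decide +kernel

/-- The coordinate on a root. -/
def coef (x : Vec) (k : Fin 8) : ℤ :=
  ∑ l : Fin 8, (gramInv.getD k []).getD l 0 * (dotInt x (R l : Vec) / 16)

theorem expand {v : leechLattice} (hv : v ∈ Lm) : v = ∑ k, coef (v : Vec) k • R k := by
  refine Subtype.ext (funext fun i => ?_)
  rw [AddSubgroup.val_finsetSum, Finset.sum_apply]
  simp only [AddSubgroup.coe_zsmul, Pi.smul_apply, smul_eq_mul]
  by_cases hi : i ∈ Om
  · refine mul_left_cancel₀ (by norm_num : (16 : ℤ) ≠ 0) ?_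
    calc 16 * (v : Vec) i = ∑ j ∈ Om, (v : Vec) j * (if i = j then 16 else 0) := by
          rw [Finset.sum_eq_single i (fun j _ hj => by rw [if_neg (Ne.symm hj), mul_zero]) (fun h => absurd hi h),
            if_pos rfl, mul_comm]
      _ = ∑ j ∈ Om, (v : Vec) j * ∑ k : Fin 8, ∑ l : Fin 8,
          (gramInv.getD k []).getD l 0 * ofList (rootsL.getD l []) j * ofList (rootsL.getD k []) i :=
        Finset.sum_congr rfl fun j hj => by rw [identity_ok i hi j hj]
      _ = 16 * ∑ k, coef (v : Vec) k * (R k : Vec) i := by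
        simp only [coef, Finset.mul_sum, Finset.sum_mul]
        rw [Finset.sum_comm]
        refine Finset.sum_congr rfl fun k _ => ?_
        rw [Finset.sum_comm]
        refine Finset.sum_congr rfl fun l _ => ?_
        obtain ⟨d, hd⟩ := dot16 v.2 (R l).2 hv (R_mem l)
        have h16 : dotInt (v : Vec) (R l : Vec) / 16 = d := by omega
        have hd' := hd
        rw [dot_inO hv] at hd'
        rw [h16, R_val k]
        rw [R_val l] at hd'
        calc ∑ j ∈ Om, (v : Vec) j * ((gramInv.getD k []).getD l 0 * ofList (rootsL.getD l []) j *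
              ofList (rootsL.getD k []) i) = (gramInv.getD k []).getD l 0 * ofList (rootsL.getD k []) i *
              ∑ j ∈ Om, (v : Vec) j * ofList (rootsL.getD l []) j := by
              rw [Finset.mul_sum]; exact Finset.sum_congr rfl fun j _ => by ring
          _ = _ := by rw [hd']; ring
  · rw [hv i hi, Finset.sum_eq_zero fun k _ => by rw [R_mem k i hi, mul_zero]]

/-- The space. -/
abbrev V : Type := Fin 4 ⊕ Fin 4 → ZMod 2

/-- The partner of a position. -/
def partner : Fin 4 ⊕ Fin 4 → Fin 4 ⊕ Fin 4 := Sum.elim Sum.inr Sum.inl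

/-- The reduction. -/
def red (x : Vec) : V := fun l => ((dotInt x (bv (partner l) : Vec) / 16 : ℤ) : ZMod 2)

theorem dot_add (x y z : Vec) : dotInt (x + y) z = dotInt x z + dotInt y z := by
  simp [dotInt, add_mul, Finset.sum_add_distrib]

theorem dot_smul (n : ℤ) (x z : Vec) : dotInt (n • x) z = n * dotInt x z := by
  simp only [dotInt, Finset.mul_sum, Pi.smul_apply, smul_eq_mul, mul_assoc]

theorem red_add {u v : leechLattice} (hu : u ∈ Lm) (hv : v ∈ Lm) :
    red ((u + v : leechLattice) : Vec) = red (u : Vec) + red (v : Vec) := by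
  funext l
  obtain ⟨c, hc⟩ := dot16 u.2 (bv (partner l)).2 hu (bv_mem _)
  obtain ⟨d, hd⟩ := dot16 v.2 (bv (partner l)).2 hv (bv_mem _)
  simp only [red, Pi.add_apply, AddSubgroup.coe_add, dot_add, hc, hd]
  rw [← mul_add, Int.mul_ediv_cancel_left _ (by norm_num), Int.mul_ediv_cancel_left _ (by norm_num),
    Int.mul_ediv_cancel_left _ (by norm_num), Int.cast_add]

theorem red_zero : red ((0 : leechLattice) : Vec) = 0 := by
  funext l; simp [red, dotInt]

theorem red_two {u : leechLattice} (hu : u ∈ Lm) : red ((2 • u : leechLattice) : Vec) = 0 := by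
  rw [two_nsmul, red_add hu hu]
  funext l
  exact CharTwo.add_self_eq_zero _

theorem red_neg {u : leechLattice} (hu : u ∈ Lm) : red ((-u : leechLattice) : Vec) = red (u : Vec) := by
  have h := red_add hu (Lm.neg_mem hu)
  rw [add_neg_cancel, red_zero] at h
  funext l
  have := congrFun h l
  rw [Pi.add_apply, Pi.zero_apply] at this
  exact (CharTwo.add_eq_zero.1 this.symm).symm

/-- The lift. -/
def lift (w : V) : leechLattice := ∑ l, (w l).val • bv l

theorem lift_mem (w : V) : lift w ∈ Lm :=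
  AddSubgroup.sum_mem _ fun l _ => AddSubgroup.nsmul_mem _ (bv_mem l) _

theorem lift_val (w : V) (i : GolayPt) :
    (lift w : Vec) i = ∑ l, ((w l).val : ℤ) * ofList (hypL.getD (pos l) []) i := by
  rw [lift, AddSubgroup.val_finsetSum, Finset.sum_apply]
  refine Finset.sum_congr rfl fun l _ => ?_
  rw [AddSubgroup.coe_nsmul, Pi.smul_apply, bv_val, nsmul_eq_mul]

/-- The vector of the lift, for computation. -/
def liftL (w : V) : Vec := fun i => ∑ l, ((w l).val : ℤ) * ofList (hypL.getD (pos l) []) i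

theorem lift_eq (w : V) : (lift w : Vec) = liftL w := funext (lift_val w)

theorem lift_ok : ∀ w : V,
    (fun l => ((dotInt (liftL w) (ofList (hypL.getD (pos (partner l)) [])) / 16 : ℤ) : ZMod 2)) = w ∧
      ((sqNorm (liftL w) / 32 : ℤ) : ZMod 2) = quadFormPlus 4 (ZMod 2) w := by
  decide +kernel

theorem red_lift (w : V) : red (lift w : Vec) = w := by
  refine Eq.trans (funext fun l => ?_) (lift_ok w).1
  rw [red, lift_eq, bv_val]

theorem half_ok : ∀ k : Fin 8, ∀ i : GolayPt, ofList (rootsL.getD k []) i =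
    (∑ l, (if (rootCls.getD k 0).testBit (pos l) then 1 else 0) * ofList (hypL.getD (pos l) []) i) +
      2 * ofList (halfL.getD k []) i := by
  decide +kernel

theorem exists_half {v : leechLattice} (hv : v ∈ Lm) (h : red (v : Vec) = 0) : ∃ w ∈ Lm, v = 2 • w := by
  have hev : ∀ l, (32 : ℤ) ∣ dotInt (v : Vec) (bv l : Vec) := by
    intro l
    have h1 := congrFun h (partner l)
    have hp : partner (partner l) = l := by cases l <;> rfl
    simp only [red, Pi.zero_apply, hp, ZMod.intCast_zmod_eq_zero_iff_dvd] at h1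
    obtain ⟨d, hd⟩ := dot16 v.2 (bv l).2 hv (bv_mem l)
    rw [hd] at h1 ⊢
    rw [Int.mul_ediv_cancel_left _ (by norm_num)] at h1
    obtain ⟨e, he⟩ := h1
    exact ⟨e, by rw [he]; push_cast; ring⟩
  have hk : ∀ k, (2 : ℤ) ∣ dotInt (v : Vec) (R k : Vec) / 16 := by
    intro k
    have e : dotInt (v : Vec) (R k : Vec) = (∑ l, (if (rootCls.getD k 0).testBit (pos l) then 1 else 0) *
        dotInt (v : Vec) (bv l : Vec)) + 2 * dotInt (v : Vec) (zv k : Vec) := by
      simp only [dotInt, Finset.mul_sum]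
      rw [Finset.sum_comm, ← Finset.sum_add_distrib]
      refine Finset.sum_congr rfl fun i _ => ?_
      rw [R_val, half_ok k i, mul_add, Finset.mul_sum, zv_val]
      congr 1
      · exact Finset.sum_congr rfl fun l _ => by rw [bv_val]; ring
      · ring
    obtain ⟨d, hd⟩ := dot16 v.2 (zv k).2 hv (zv_mem k)
    obtain ⟨c, hc⟩ : (32 : ℤ) ∣ dotInt (v : Vec) (R k : Vec) := by
      rw [e]
      exact dvd_add (Finset.dvd_sum fun l _ => Dvd.dvd.mul_left (hev l) _) ⟨d, by rw [hd]; ring⟩
    exact ⟨c, by omega⟩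
  have hc : ∀ k, (2 : ℤ) ∣ coef (v : Vec) k := fun k =>
    Finset.dvd_sum fun l _ => Dvd.dvd.mul_left (hk l) _
  refine ⟨∑ k, (coef (v : Vec) k / 2) • R k,
    AddSubgroup.sum_mem _ fun k _ => AddSubgroup.zsmul_mem _ (R_mem k) _, ?_⟩
  conv_lhs => rw [expand hv]
  rw [Finset.smul_sum]
  refine Finset.sum_congr rfl fun k _ => ?_
  rw [← natCast_zsmul, smul_smul, Nat.cast_ofNat, Int.mul_ediv_cancel' (hc k)]

theorem exists_sub_lift {v : leechLattice} (hv : v ∈ Lm) : ∃ w ∈ Lm, v = lift (red (v : Vec)) + 2 • w := by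
  obtain ⟨w, hw, e⟩ := exists_half (Lm.sub_mem hv (lift_mem (red (v : Vec)))) (by
    rw [sub_eq_add_neg, red_add hv (Lm.neg_mem (lift_mem _)), red_neg (lift_mem _), red_lift]
    funext l; exact CharTwo.add_self_eq_zero _)
  exact ⟨w, hw, by rw [← e]; abel⟩

/-- The form of the reduction is half the norm. -/
theorem quad_red {v : leechLattice} (hv : v ∈ Lm) :
    quadFormPlus 4 (ZMod 2) (red (v : Vec)) = ((sqNorm (v : Vec) / 32 : ℤ) : ZMod 2) := by
  obtain ⟨w, hw, e⟩ := exists_sub_lift hv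
  rw [← (lift_ok (red (v : Vec))).2]
  have hn : sqNorm (v : Vec) = sqNorm (liftL (red (v : Vec))) + 4 * sqNorm (w : Vec) +
      4 * dotInt (liftL (red (v : Vec))) (w : Vec) := by
    conv_lhs => rw [e]
    rw [AddSubgroup.coe_add, AddSubgroup.coe_nsmul, norm_add, norm_two_smul, lift_eq,
      show ((2 : ℕ) • (w : Vec)) = (w : Vec) + (w : Vec) from two_nsmul _, dotInt_comm, dot_add,
      dotInt_comm (w : Vec)]
    ring
  obtain ⟨c, hc⟩ := norm32 w.2 hw
  obtain ⟨d, hd⟩ := dot16 (lift (red (v : Vec))).2 w.2 (lift_mem _) hw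
  obtain ⟨f, hf⟩ := norm32 (lift (red (v : Vec))).2 (lift_mem _)
  rw [lift_eq] at hd hf
  have h1 : sqNorm (v : Vec) / 32 = f + 2 * (2 * c + d) := by omega
  have h2 : sqNorm (liftL (red (v : Vec))) / 32 = f := by omega
  rw [h1, h2, Int.cast_add, Int.cast_mul, show ((2 : ℤ) : ZMod 2) = 0 from rfl, zero_mul, add_zero]

end Cfsg.Agent.Fus.Co1Centre
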