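import Cfsg.Agent.Lib.Fus.Co1Centre.Group
import Cfsg.Agent.Lib.Spor.Golay.OctStab

/-!
The order of the stabiliser, the kernel of its map and the image.
-/

set_option autoImplicit false
set_option maxRecDepth 100000

open Matrix Cfsg
open scoped Pointwise

namespace Cfsg.Agent.Fus.Co1Centre

open Cfsg.Agent.Spor Cfsg.Agent.Spor.Leech
open Cfsg.Agent.Classical.OmegaEightTwo (O0 QQ G0)
open Golay.Census (grp tr4SG)

/-- The nonzero singular vectors. -/
def singF : Finset V := Finset.univ.filter fun w => w ≠ 0 ∧ quadFormPlus 4 (ZMod 2) w = 0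

theorem card_singF : singF.card = 135 := by decide +kernel

theorem orbit_subset :
    MulAction.orbit Cs stdL ⊆ (fun w : V => crossOf (lift w)) '' (singF : Set V) := by
  rintro _ ⟨g, rfl⟩
  have hu : (g : Co0) • axis i0 ∈ Lm := smul_mem_Lm g.2 (axis_mem_iff.2 i0_mem)
  have hn : sqNorm (((g : Co0) • axis i0 : leechLattice) : Vec) = 64 := by rw [co_norm, axis_norm]
  have e1 : g • stdL = crossOf ((g : Co0) • axis i0) := by
    show (g : Co0) • stdL = _
    rw [← crossOf_axis i0, smul_crossOf]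
  revert e1 hn hu
  generalize (g : Co0) • axis i0 = u
  intro hu hn e1
  refine ⟨red (u : Vec), ?_, ?_⟩
  · simp only [singF, Finset.coe_filter, Finset.mem_univ, true_and, Set.mem_ofPred_eq]
    refine ⟨fun h0 => ?_, ?_⟩
    · obtain ⟨w, -, e⟩ := exists_half hu h0
      rw [e, AddSubgroup.coe_nsmul, norm_two_smul] at hn
      have := norm_ge w.2 (fun h => by rw [h] at hn; simp [sqNorm] at hn)
      omega
    · rw [quad_red hu, hn]; rfl
  · show crossOf (lift (red (u : Vec))) = g • stdL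
    rw [e1]
    refine crossOf_congr ?_
    obtain ⟨w, -, e⟩ := exists_sub_lift hu
    refine cls_eq.2 ⟨((-w : leechLattice) : Vec), (-w).2, ?_⟩
    conv_lhs => arg 2; rw [e]
    rw [AddSubgroup.coe_add, AddSubgroup.coe_nsmul, AddSubgroup.coe_neg, smul_neg]
    abel

theorem card_stab_le : Nat.card ↥(Cs ⊓ crossStab) ≤ 4096 * 322560 := by
  classical
  have h : ∀ g : ↥(Cs ⊓ crossStab), ∃ q : supports (golayCode : Set (GolayPt → ZMod 2)) ×
      ↥(Golay.Census.Fx [[5279]]), (g : Co0) = mono (Golay.Census.mem_Fx_one.1 q.2.2).1 q.1.2 := by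
    intro g
    obtain ⟨σ, hσ, c, hc, e⟩ := exists_mono (Subgroup.mem_inf.1 g.2).2
    refine ⟨(⟨c, hc⟩, ⟨σ, Golay.Census.mem_Fx_one.2 ⟨hσ, ?_⟩⟩), e⟩
    rw [Golay.Census.smul_fam_single]
    exact (mono_mem_Cs hσ hc).1 (e ▸ (Subgroup.mem_inf.1 g.2).1)
  choose f hf using h
  refine (Nat.card_le_card_of_injective f fun a b e => Subtype.ext ?_).trans ?_
  · rw [hf a, hf b]; simp only [e]
  · rw [Nat.card_prod, card_supports, Golay.Census.stageOct.card_Fx]

theorem card_Cs_le : Nat.card Cs ≤ 135 * (4096 * 322560) := by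
  have h := (MulAction.stabilizer Cs stdL).index_mul_card
  rw [MulAction.index_stabilizer] at h
  rw [← h]
  refine Nat.mul_le_mul ?_ ?_
  · refine (Set.ncard_le_ncard orbit_subset (Set.toFinite _)).trans
      ((Set.ncard_image_le (Set.toFinite _)).trans ?_)
    rw [Set.ncard_coe_finset, card_singF]
  · refine le_trans (le_of_eq ?_) card_stab_le
    refine Nat.card_congr ⟨fun g => ⟨(g.1 : Co0), Subgroup.mem_inf.2 ⟨g.1.2, ?_⟩⟩,
      fun g => ⟨⟨g.1, (Subgroup.mem_inf.1 g.2).1⟩, ?_⟩, fun g => rfl, fun g => rfl⟩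
    · exact MulAction.mem_stabilizer_iff.2 (MulAction.mem_stabilizer_iff.1 g.2 : g.1 • stdL = stdL)
    · exact MulAction.mem_stabilizer_iff.2 (MulAction.mem_stabilizer_iff.1 (Subgroup.mem_inf.1 g.2).2)

/-- Sign sets that are constant on the octad. -/
def SO : Set (Finset GolayPt) :=
  {c | c ∈ supports (golayCode : Set (GolayPt → ZMod 2)) ∧ (Disjoint c Om ∨ Om ⊆ c)}

/-- The masks of these. -/
def coL : List ℕ := Golay.codeList.filter fun m => (m &&& 5279 == 0) || (5279 &&& m == 5279)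

theorem coL_length : coL.length = 64 := by decide +kernel

theorem disjoint_pts {a b : ℕ} (ha : a < 2 ^ 24) :
    Disjoint (Golay.pts a) (Golay.pts b) ↔ a &&& b = 0 := by
  constructor
  · intro h
    refine Golay.pts_injOn ((Nat.and_le_left).trans_lt ha) (by norm_num) ?_
    ext p
    have h2 : p ∈ Golay.pts a → p ∉ Golay.pts b := fun hp => Finset.disjoint_left.1 h hp
    simp only [Golay.mem_pts, Nat.testBit_and, Nat.zero_testBit, Bool.and_eq_true] at h2 ⊢
    exact ⟨fun hp => absurd hp.2 (h2 hp.1), fun hp => absurd hp (by simp)⟩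
  · intro h
    refine Finset.disjoint_left.2 fun p hp hq => ?_
    have h2 := congrArg (fun n => n.testBit (Golay.idx p)) h
    simp only [Nat.testBit_and, Golay.mem_pts.1 hp, Golay.mem_pts.1 hq, Nat.zero_testBit] at h2
    simp at h2

theorem mem_SO {c : Finset GolayPt} : c ∈ SO ↔ ∃ m ∈ coL, Golay.pts m = c := by
  simp only [SO, Set.mem_ofPred_eq, coL, List.mem_filter, Bool.or_eq_true, beq_iff_eq]
  constructor
  · rintro ⟨hc, h⟩
    obtain ⟨m, hm, rfl⟩ := Golay.mem_supports.1 hc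
    have hlt := Golay.codeList_lt hm
    exact ⟨m, ⟨hm, h.imp (disjoint_pts hlt).1 (Golay.pts_subset_iff (by norm_num)).1⟩, rfl⟩
  · rintro ⟨m, ⟨hm, h⟩, rfl⟩
    exact ⟨Golay.mem_supports.2 ⟨m, hm, rfl⟩,
      h.imp (disjoint_pts (Golay.codeList_lt hm)).2 (Golay.pts_subset_iff (by norm_num)).2⟩

theorem card_SO : Nat.card SO = 64 := by
  classical
  have e : SO = ↑(coL.toFinset.image Golay.pts) := by
    ext c; simp [mem_SO]
  rw [Nat.card_coe_set_eq, e, Set.ncard_coe_finset, Finset.card_image_of_injOn, List.toFinset_card_of_nodup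
    (l := coL) (Golay.codeList_nodup.filter _), coL_length]
  intro a ha b hb h
  simp only [Finset.mem_coe, List.mem_toFinset, coL, List.mem_filter] at ha hb
  exact Golay.pts_injOn (Golay.codeList_lt ha.1) (Golay.codeList_lt hb.1) h

theorem ker_perm_mem {σ : Equiv.Perm GolayPt} (hσ : σ ∈ grp tr4SG) : σ ∈ M24 :=
  (Golay.Census.mem_ker_oct.1 hσ).1

theorem ker_perm_Om {σ : Equiv.Perm GolayPt} (hσ : σ ∈ grp tr4SG) : σ • Om = Om :=
  Finset.eq_of_subset_of_card_le (fun j hj => by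
    obtain ⟨i, hi, rfl⟩ := Finset.mem_smul_finset.1 hj
    rwa [Equiv.Perm.smul_def, (Golay.Census.mem_ker_oct.1 hσ).2 i hi]) (by rw [Finset.card_smul_finset])

/-- A pair as a member of the stabiliser. -/
def kap (q : ↥(grp tr4SG) × SO) : Cs :=
  ⟨mono (ker_perm_mem q.1.2) q.2.2.1, (mono_mem_Cs _ _).2 (ker_perm_Om q.1.2)⟩

theorem kap_mem (q : ↥(grp tr4SG) × SO) : kap q ∈ Phi.ker := by
  obtain ⟨⟨σ, hσ⟩, c, hc, hd⟩ := q
  refine mem_ker.2 fun v hv => ?_
  have hfix : ∀ i ∈ Om, σ.symm i = i := fun i hi => by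
    rw [Equiv.symm_apply_eq, (Golay.Census.mem_ker_oct.1 hσ).2 i hi]
  have hout : ∀ i ∉ Om, σ.symm i ∉ Om := fun i hi hm => hi (by
    have := (Golay.Census.mem_ker_oct.1 hσ).2 _ hm
    rw [Equiv.apply_symm_apply] at this
    rwa [this])
  show red ((mono (ker_perm_mem hσ) hc • v : leechLattice) : Vec) = red (v : Vec)
  rcases hd with h | h
  · refine congrArg red (funext fun i => ?_)
    rw [mono_apply, signedPerm]
    by_cases hi : i ∈ Om
    · rw [if_neg (fun hc' => Finset.disjoint_left.1 h hc' hi), hfix i hi]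
    · rw [hv _ (hout i hi), hv _ hi]; simp
  · refine Eq.trans (congrArg red (funext fun i => ?_)) (red_neg hv)
    rw [mono_apply, signedPerm, AddSubgroup.coe_neg, Pi.neg_apply]
    by_cases hi : i ∈ Om
    · rw [if_pos (h hi), hfix i hi]
    · rw [hv _ (hout i hi), hv _ hi]; simp

theorem exists_kap {g : Cs} (hg : g ∈ Phi.ker) : ∃ q, kap q = g := by
  obtain ⟨ε, hε, h⟩ := ker_sign hg
  obtain ⟨σ, hσ, c, hc, e⟩ := exists_mono (ker_le_crossStab hg)
  have hax : ∀ i ∈ Om, σ i = i ∧ (σ i ∈ c ↔ ε = -1) := by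
    intro i hi
    have h1 := h _ (axis_mem_iff.2 hi)
    rw [e, mono_axis] at h1
    rcases hε with rfl | rfl
    · rw [one_zsmul] at h1
      split_ifs at h1 with hc'
      · exact absurd h1.symm (axis_ne_neg _ _)
      · exact ⟨axis_injective h1, iff_of_false hc' (by norm_num)⟩
    · rw [neg_one_zsmul] at h1
      split_ifs at h1 with hc'
      · exact ⟨axis_injective (neg_injective h1), iff_of_true hc' rfl⟩
      · exact absurd h1 (axis_ne_neg _ _)
  have hker : σ ∈ grp tr4SG := Golay.Census.mem_ker_oct.2 ⟨hσ, fun i hi => (hax i hi).1⟩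
  have hS : c ∈ SO := by
    refine ⟨hc, ?_⟩
    by_cases h1 : ε = -1
    · exact Or.inr fun i hi => (hax i hi).1 ▸ (hax i hi).2.2 h1
    · exact Or.inl (Finset.disjoint_right.2 fun i hi hm => h1 ((hax i hi).2.1 ((hax i hi).1.symm ▸ hm)))
  exact ⟨(⟨σ, hker⟩, ⟨c, hS⟩), Subtype.ext e.symm⟩

theorem kap_bijective : Function.Bijective fun q => (⟨kap q, kap_mem q⟩ : Phi.ker) := by
  refine ⟨fun q r h => ?_, fun g => ?_⟩
  · obtain ⟨h1, h2⟩ := mono_inj (ker_perm_mem q.1.2) (ker_perm_mem r.1.2) q.2.2.1 r.2.2.1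
      (congrArg (fun x : Phi.ker => ((x : Cs) : Co0)) h)
    exact Prod.ext (Subtype.ext h1) (Subtype.ext h2)
  · obtain ⟨q, hq⟩ := exists_kap g.2
    exact ⟨q, Subtype.ext hq⟩

theorem card_ker : Nat.card Phi.ker = 1024 := by
  rw [← Nat.card_congr (Equiv.ofBijective _ kap_bijective), Nat.card_prod, Golay.Census.card_ker_oct, card_SO]

theorem range_eq : Phi.range = Omega (ZMod 2) ⇑QQ := by
  refine (Subgroup.eq_of_le_of_card_ge omega_le_range ?_).symm
  have h := Phi.ker.card_mul_index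
  rw [Subgroup.index_ker, card_ker] at h
  have h2 := card_Cs_le
  have h3 := Classical.OmegaEightTwo.card_G0
  unfold Classical.OmegaEightTwo.G0 at h3
  have h4 : Nat.card Phi.range ≤ 174182400 := by omega
  exact h4.trans h3.ge

end Cfsg.Agent.Fus.Co1Centre
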