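import Cfsg.Agent.Lib.Fus.Co1Centre.Order
import Cfsg.Agent.Lib.Spor.AffineOctad

/-!
Products of signed permutations and the combinatorics of sign sets constant on the octad.
-/

set_option autoImplicit false
set_option maxRecDepth 100000

open Cfsg
open scoped Pointwise

namespace Cfsg.Agent.Fus.Co1Centre

open Cfsg.Agent.Spor Cfsg.Agent.Spor.Leech
open Golay.Census (grp tr4SG)

theorem symm_mem_smul {σ : Equiv.Perm GolayPt} {d : Finset GolayPt} {i : GolayPt} :
    i ∈ σ • d ↔ σ.symm i ∈ d := by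
  conv_lhs => rw [← Equiv.apply_symm_apply σ i, ← Equiv.Perm.smul_def, Finset.smul_mem_smul_finset_iff]

theorem mono_mul {σ τ : Equiv.Perm GolayPt} (hσ : σ ∈ M24) (hτ : τ ∈ M24) {c d : Finset GolayPt}
    (hc : c ∈ supports (golayCode : Set (GolayPt → ZMod 2))) (hd : d ∈ supports (golayCode : Set (GolayPt → ZMod 2))) :
    mono hσ hc * mono hτ hd = mono (mul_mem hσ hτ) (Golay.symmDiff_mem_supports hc (smul_supports hσ hd)) := by
  refine ext_axis fun i => ?_
  have hmem : σ (τ i) ∈ σ • d ↔ τ i ∈ d := by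
    rw [← Equiv.Perm.smul_def, Finset.smul_mem_smul_finset_iff]
  rw [mul_smul, mono_axis hτ hd, mono_axis, Equiv.Perm.mul_apply]
  by_cases h1 : τ i ∈ d <;> by_cases h2 : σ (τ i) ∈ c <;>
    simp only [h1, h2, if_true, if_false, mono_axis, co_neg, neg_neg, Finset.mem_symmDiff, hmem, not_true,
      not_false_iff, and_true, true_and, and_false, false_and, or_false, false_or]

theorem mono_congr {σ τ : Equiv.Perm GolayPt} (hσ : σ ∈ M24) (hτ : τ ∈ M24) {c d : Finset GolayPt}
    (hc : c ∈ supports (golayCode : Set (GolayPt → ZMod 2))) (hd : d ∈ supports (golayCode : Set (GolayPt → ZMod 2)))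
    (h1 : σ = τ) (h2 : c = d) : mono hσ hc = mono hτ hd := by
  subst h1; subst h2; rfl

/-- The four sign sets that become trivial or central. -/
def four : List ℕ := [0, 5279, 16777215, 16777215 ^^^ 5279]

/-- Being one of the four. -/
def Four (s : Finset GolayPt) : Prop := ∃ m ∈ four, Golay.pts m = s

theorem four_xor : ∀ a ∈ four, ∀ b ∈ four, a ^^^ b ∈ four := by decide +kernel

theorem four_lt : ∀ a ∈ four, a < 2 ^ 24 := by decide +kernel

theorem Four.symmDiff {s t : Finset GolayPt} (hs : Four s) (ht : Four t) : Four (symmDiff s t) := by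
  obtain ⟨a, ha, rfl⟩ := hs
  obtain ⟨b, hb, rfl⟩ := ht
  exact ⟨a ^^^ b, four_xor a ha b hb, (Golay.pts_symmDiff a b).symm⟩

theorem smul_SO {σ : Equiv.Perm GolayPt} (hσ : σ ∈ grp tr4SG) {c : Finset GolayPt} (hc : c ∈ SO) : σ • c ∈ SO := by
  obtain ⟨hc, hd⟩ := hc
  refine ⟨smul_supports (ker_perm_mem hσ) hc, hd.imp (fun h => ?_) fun h => ?_⟩
  · refine Finset.disjoint_left.2 fun i hi ho => ?_
    rw [← ker_perm_Om hσ] at ho
    exact Finset.disjoint_left.1 h (symm_mem_smul.1 hi) (symm_mem_smul.1 ho)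
  · rw [← ker_perm_Om hσ]
    exact Finset.smul_finset_subset_smul_finset_iff.2 h

theorem gens_four : ∀ P ∈ tr4SG, Golay.valid P = true ∧
    ∀ m ∈ coL, m ^^^ Golay.imgMask (Golay.get P) m ∈ four := by
  decide +kernel

theorem grp_four {σ : Equiv.Perm GolayPt} (hσ : σ ∈ grp tr4SG) :
    ∀ c ∈ SO, Four (symmDiff c (σ • c)) := by
  induction hσ using Subgroup.closure_induction with
  | mem x hx =>
    obtain ⟨P, hP, rfl⟩ := hx
    intro c hc
    obtain ⟨m, hm, rfl⟩ := mem_SO.1 hc
    obtain ⟨hv, hh⟩ := gens_four P hP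
    exact ⟨_, hh m hm, by rw [Golay.permOf_smul_pts hv, Golay.pts_symmDiff]⟩
  | one =>
    intro c _
    refine ⟨0, by decide, ?_⟩
    rw [one_smul, symmDiff_self]
    ext p; simp [Golay.mem_pts]
  | mul x y hx hy px py =>
    intro c hc
    rw [mul_smul, show symmDiff c (x • y • c) = symmDiff (symmDiff c (y • c)) (symmDiff (y • c) (x • y • c)) by
      rw [symmDiff_assoc, symmDiff_symmDiff_cancel_left]]
    exact (py c hc).symmDiff (px _ (smul_SO hy hc))
  | inv x hx px =>
    intro c hc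
    have h := px _ (smul_SO (inv_mem hx) hc)
    rwa [smul_inv_smul, symmDiff_comm] at h

theorem imgMask_lt {P : ℕ} (hP : Golay.valid P = true) (m : ℕ) : Golay.imgMask (Golay.get P) m < 2 ^ 24 :=
  Nat.lt_pow_two_of_testBit _ fun i hi => by
    by_contra h
    rw [Bool.not_eq_false] at h
    obtain ⟨j, hj, -, e⟩ := (Golay.testBit_imgMask _ _ _).1 h
    have := (Golay.valid_iff.1 hP).2 j hj
    omega

theorem separate : ∀ i : GolayPt, i ∈ Om ∨ ∀ j : GolayPt, j ∈ Om ∨ i = j ∨
    coL.any (fun m => (m &&& 5279 == 0) && m.testBit (Golay.idx i) && !(m.testBit (Golay.idx j))) = true := by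
  decide +kernel

theorem fixed_signs : ∀ m ∈ coL, (∀ P ∈ tr4SG, Golay.imgMask (Golay.get P) m = m) → m ∈ four := by
  decide +kernel

/-- A member of the octad stabiliser moving a sign set. -/
theorem moving : Golay.inM24 (octI.getD 0 0) = true ∧ Golay.imgMask (Golay.get (octI.getD 0 0)) 5279 = 5279 ∧
    (coL.any fun m => (m &&& 5279 == 0) &&
      four.all fun f => !(m ^^^ Golay.imgMask (Golay.get (octI.getD 0 0)) m == f)) = true := by
  decide +kernel

theorem other_octad : ∃ m ∈ coL, Golay.pop m = 8 ∧ m ∉ four := by decide +kernel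

end Cfsg.Agent.Fus.Co1Centre
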