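import Cfsg.Agent.Lib.Fus.Co1Centre.Lattice
import Cfsg.Agent.Lib.Classical.OmegaEightTwo.Two

/-!
The letters of the words as automorphisms of the lattice, their matrices on the reduction, and the four involutions.
-/

set_option autoImplicit false
set_option maxRecDepth 100000

open Matrix Cfsg

namespace Cfsg.Agent.Fus.Co1Centre

open Cfsg.Agent.Spor Cfsg.Agent.Spor.Leech

/-- The matrix of a letter. -/
def tabM (t : ℕ) : Matrix (Fin 4 ⊕ Fin 4) (Fin 4 ⊕ Fin 4) (ZMod 2) :=
  fun i j => if ((colsL.getD t []).getD (pos j) 0).testBit (pos i) then 1 else 0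

/-- The map of a letter on vectors. -/
def genV (t : ℕ) (x : Vec) : Vec :=
  if t = 0 then xiFun x
  else if t < 3 then fun q => x (Golay.app (octI.getD (t - 1) 0) q)
  else Leech.flip (Golay.pts (Golay.basis.getD (t - 3) 0)) x

/-- The reduction, for computation. -/
def redL (x : Vec) : V := fun l => ((dotInt x (ofList (hypL.getD (pos (partner l)) [])) / 16 : ℤ) : ZMod 2)

theorem red_eq_redL (x : Vec) : red x = redL x := by
  funext l; rw [red, redL, bv_val]

theorem tab_ok' : ∀ (t : Fin 11) (i j : Fin 4 ⊕ Fin 4),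
    decide (redL (genV t (ofList (hypL.getD (pos j) []))) i = tabM t i j) = true := by
  decide +kernel

theorem tab_ok {t : ℕ} (ht : t < 11) (i j : Fin 4 ⊕ Fin 4) :
    redL (genV t (ofList (hypL.getD (pos j) []))) i = tabM t i j :=
  of_decide_eq_true (tab_ok' ⟨t, ht⟩ i j)

theorem root_ok : ∀ t < 11, ∀ k < 8, ∀ i ∉ Om, genV t (ofList (rootsL.getD k [])) i = 0 := by
  decide +kernel

theorem oct_ok : ∀ t < 2, Golay.inM24 (octI.getD t 0) = true := by decide +kernel

theorem flip_ok : ∀ b < 8, Golay.isCode (Golay.basis.getD b 0) = true := by decide +kernel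

/-- The automorphism of a letter. -/
noncomputable def genC (t : ℕ) : Co0 :=
  if t = 0 then xi
  else if t < 3 then
    if h : Golay.inM24 (octI.getD (t - 1) 0) = true then mono (mem_symm (Golay.permOf_mem_M24 h)) empty_code else 1
  else
    if h : Golay.isCode (Golay.basis.getD (t - 3) 0) = true then
      mono (one_mem M24) (Golay.mem_supports.2 ⟨_, Golay.mem_codeList.2 h, rfl⟩)
    else 1

theorem genC_val {t : ℕ} (ht : t < 11) (v : leechLattice) :
    ((genC t • v : leechLattice) : Vec) = genV t (v : Vec) := by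
  unfold genC genV
  by_cases h0 : t = 0
  · rw [if_pos h0, if_pos h0]; exact xi_apply v
  rw [if_neg h0, if_neg h0]
  by_cases h3 : t < 3
  · have hP := oct_ok (t - 1) (by omega)
    rw [if_pos h3, if_pos h3, dif_pos hP]
    funext q
    have hv : Golay.valid (octI.getD (t - 1) 0) = true := by
      rw [Golay.inM24, Bool.and_eq_true] at hP; exact hP.1
    rw [mono_apply, signedPerm_eq, Equiv.symm_symm]
    simp only [Leech.flip, Finset.notMem_empty, if_false]
    rw [Golay.permOf_apply hv]
  · rw [if_neg h3, if_neg h3, dif_pos (flip_ok (t - 3) (by omega)), mono_apply, signedPerm_eq]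
    rfl

theorem letters_ok : ∀ s < 4, ∀ t ∈ wordsL.getD s [], t < 11 := by decide +kernel

/-- The value of a word on a vector. -/
def evV (w : List ℕ) (v : V) : V := w.foldr (fun t u => tabM t *ᵥ u) v

open Cfsg.Agent.Classical.OmegaEightTwo in
theorem word_ok : ∀ s < 4, ∀ j, evV (wordsL.getD s []) (Pi.single j 1) =
    rfv (genP.getD s (0, 0)).1 (rfv (genP.getD s (0, 0)).2 (Pi.single j 1)) := by
  decide +kernel

open Cfsg.Agent.Classical.OmegaEightTwo in
theorem pair_ok : ∀ s < 4, isNS (genP.getD s (0, 0)).1 = true ∧ isNS (genP.getD s (0, 0)).2 = true := by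
  decide +kernel

end Cfsg.Agent.Fus.Co1Centre
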